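import Groth.Agent.Lib.FunFld.Res.SepRes
import Groth.Agent.Lib.FunFld.Ext
import Groth.Agent.Lib.FunFld.Hasse.Formula
/-!
# The different exponent read through expansions

`diffExp φ ψ e x` is the order of `dt` above, for a uniformizer `t` below.
-/

set_option autoImplicit false

namespace Groth.Agent.H81.Diff.Basic

open WithZero Groth.Agent.Lib.FunFld

section Series

universe w
variable {F : Type w} [Field F]

/-- Differentiation lowers the order by at most one. -/
theorem vD_le {g : LaurentSeries F} {m : ℤ} (h : Valued.v g ≤ exp (-m)) :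
    Valued.v (LocRes.D F g) ≤ exp (-(m - 1)) :=
  (LaurentSeries.valuation_le_iff_coeff_lt_eq_zero F).mpr fun n hn => by
    rw [LocRes.D_coeff, (LaurentSeries.valuation_le_iff_coeff_lt_eq_zero F).mp h (n + 1) (by omega),
      smul_zero]

theorem vD_le' {g : LaurentSeries F} {m : ℤ} (h : Valued.v g ≤ exp (-m)) (hm : (m : F) = 0) :
    Valued.v (LocRes.D F g) ≤ exp (-m) :=
  (LaurentSeries.valuation_le_iff_coeff_lt_eq_zero F).mpr fun n hn => by
    rw [LocRes.D_coeff, zsmul_eq_mul]
    rcases lt_or_eq_of_le (show n + 1 ≤ m by omega) with h1 | h1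
    · rw [(LaurentSeries.valuation_le_iff_coeff_lt_eq_zero F).mp h (n + 1) h1, mul_zero]
    · rw [h1, hm, zero_mul]

theorem val_eq_of_coeff {g : LaurentSeries F} {m : ℤ} (h : Valued.v g ≤ exp (-m)) (hc : g.coeff m ≠ 0) :
    Valued.v g = exp (-m) := by
  refine le_antisymm h (not_lt.1 fun hlt => hc ?_)
  suffices h' : Valued.v g ≤ exp (-(m + 1)) from
    (LaurentSeries.valuation_le_iff_coeff_lt_eq_zero F).mp h' m (by omega)
  rcases eq_or_ne (Valued.v g) 0 with h0 | h0
  · rw [h0]; exact zero_le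
  · rw [← exp_log h0] at hlt ⊢
    rw [exp_lt_exp] at hlt
    rw [exp_le_exp]
    omega

theorem coeff_ne_zero_of_val_eq {g : LaurentSeries F} {m : ℤ} (h : Valued.v g = exp (-m)) : g.coeff m ≠ 0 := by
  intro hc
  have h2 : Valued.v g ≤ exp (-(m + 1)) :=
    (LaurentSeries.valuation_le_iff_coeff_lt_eq_zero F).mpr fun n hn => by
      rcases lt_or_eq_of_le (show n ≤ m by omega) with h1 | rfl
      · exact (LaurentSeries.valuation_le_iff_coeff_lt_eq_zero F).mp h.le n h1
      · exact hc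
  rw [h, exp_le_exp] at h2
  omega

theorem vD_eq {g : LaurentSeries F} {m : ℤ} (h : Valued.v g = exp (-m)) (hm : (m : F) ≠ 0) :
    Valued.v (LocRes.D F g) = exp (-(m - 1)) := by
  refine val_eq_of_coeff (vD_le h.le) ?_
  rw [LocRes.D_coeff, sub_add_cancel, zsmul_eq_mul]
  exact mul_ne_zero hm (coeff_ne_zero_of_val_eq h)

theorem vD_le_one {g : LaurentSeries F} (h : Valued.v g ≤ 1) : Valued.v (LocRes.D F g) ≤ 1 := by
  refine (vD_le' (m := 0) (by simpa using h) (by simp)).trans ?_
  simp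

end Series

universe u v w
variable {k : Type u} {K : Type v} [Field k] [Field K] [Algebra k K]
variable {F : Type w} [Field F] [Algebra k F]

/-- A relation between differentials holds through every expansion. -/
theorem D_of_kaehler (χ : K →ₐ[k] LaurentSeries F) {a b r : K}
    (h : KaehlerDifferential.D k K a = r • KaehlerDifferential.D k K b) :
    LocRes.D F (χ a) = χ r * LocRes.D F (χ b) := by
  let _ := χ.toRingHom.toAlgebra
  have := LocRes.isScalarTower_exp χ
  have h1 := (LocRes.dExp χ).liftKaehlerDifferential_comp_D a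
  rw [h, map_smul, (LocRes.dExp χ).liftKaehlerDifferential_comp_D] at h1
  exact h1.symm

theorem exists_ratio {t : K} (ht : Hasse.Separable.IsSep k t) (a : K) :
    ∃ r : K, KaehlerDifferential.D k K a = r • KaehlerDifferential.D k K t := by
  obtain ⟨r, hr⟩ := Submodule.mem_span_singleton.1 ((Hasse.Separable.span_D_eq_top ht).symm ▸
    Submodule.mem_top : KaehlerDifferential.D k K a ∈ Submodule.span K {KaehlerDifferential.D k K t})
  exact ⟨r, hr.symm⟩

/-- A uniformizer with an expansion is separating. -/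
theorem isSep_uniformizer (hK : _root_.FunFld.IsFunctionField k K)
    (hsep : ∃ x₀ : K, Hasse.Separable.IsSep k x₀) {P : _root_.FunFld.Place k K}
    {φ : K →ₐ[k] LaurentSeries F} (hφ : LocRes.IsExpansionAt P.1 φ) {t : K} (ht : P.1 t = exp (-1)) :
    Valued.v (LocRes.D F (φ t)) = 1 ∧ Hasse.Separable.IsSep k t := by
  have h1 : Valued.v (LocRes.D F (φ t)) = 1 := by
    rw [vD_eq (m := 1) ((hφ.1 t).trans ht) (by simp)]
    simp
  refine ⟨h1, Hasse.Separable.isSep_of_D_ne_zero hK hsep fun h0 => ?_⟩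
  rw [Res.SepRes.D_eq_zero_of_kaehler φ h0, map_zero] at h1
  exact zero_ne_one h1

section Ext

variable {K' : Type*} [Field K'] [Algebra K K'] [Algebra k K'] [IsScalarTower k K K']
  {F' : Type*} [Field F'] [Algebra k F']

/-- The different exponent is the order of `dt` above. -/
theorem diffExp_eq (hK : _root_.FunFld.IsFunctionField k K) (hsep : ∃ x₀ : K, Hasse.Separable.IsSep k x₀)
    {P : _root_.FunFld.Place k K} {Q : _root_.FunFld.Place k K'} {e : ℕ}
    (he : _root_.FunFld.IsOverWith Q P e)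
    {φ : K →ₐ[k] LaurentSeries F} (hφ : LocRes.IsExpansionAt P.1 φ)
    {ψ : K' →ₐ[k] LaurentSeries F'} (hψ : LocRes.IsExpansionAt Q.1 ψ)
    {x : K} (hx : LocRes.vDiff φ 1 x ≠ 0) (hx' : LocRes.vDiff ψ 1 (algebraMap K K' x) ≠ 0)
    {t : K} (ht : P.1 t = exp (-1)) :
    Valued.v (LocRes.D F' (ψ (algebraMap K K' t))) = exp (-LocRes.diffExp φ ψ e x) := by
  obtain ⟨h1, hs⟩ := isSep_uniformizer hK hsep hφ ht
  obtain ⟨r, hr⟩ := exists_ratio hs x
  have hP := D_of_kaehler φ hr
  have hQ := D_of_kaehler (ψ.comp (IsScalarTower.toAlgHom k K K')) hr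
  simp only [AlgHom.comp_apply, IsScalarTower.toAlgHom_apply] at hQ
  have vx : LocRes.vDiff φ 1 x = P.1 r := by
    rw [LocRes.vDiff, map_one, one_mul, hP, map_mul, h1, hφ.1, mul_one]
  have vx' : LocRes.vDiff ψ 1 (algebraMap K K' x) =
      P.1 r ^ e * Valued.v (LocRes.D F' (ψ (algebraMap K K' t))) := by
    rw [LocRes.vDiff, map_one, one_mul, hQ, map_mul, hψ.1, he]
  rw [vx] at hx
  rw [vx'] at hx'
  have hD := right_ne_zero_of_mul hx'
  rw [LocRes.diffExp, LocRes.ordDiff, LocRes.ordDiff, vx, vx', log_mul (pow_ne_zero _ hx) hD, log_pow,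
    nsmul_eq_mul]
  conv_lhs => rw [← exp_log hD]
  congr 1
  ring

theorem natCast_ne_zero_iff (k : Type*) {A B : Type*} [Field k] [Field A] [Field B] [Algebra k A] [Algebra k B]
    (n : ℕ) : (n : A) ≠ 0 ↔ (n : B) ≠ 0 := by
  rw [← map_natCast (algebraMap k A), ← map_natCast (algebraMap k B), map_ne_zero, map_ne_zero]

/-- The tame and wild estimates. -/
theorem diffExp_tame (hK : _root_.FunFld.IsFunctionField k K) (hsep : ∃ x₀ : K, Hasse.Separable.IsSep k x₀)
    {P : _root_.FunFld.Place k K} {Q : _root_.FunFld.Place k K'} {e : ℕ}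
    (he : _root_.FunFld.IsOverWith Q P e)
    {φ : K →ₐ[k] LaurentSeries F} (hφ : LocRes.IsExpansionAt P.1 φ)
    {ψ : K' →ₐ[k] LaurentSeries F'} (hψ : LocRes.IsExpansionAt Q.1 ψ)
    {x : K} (hx : LocRes.vDiff φ 1 x ≠ 0) (hx' : LocRes.vDiff ψ 1 (algebraMap K K' x) ≠ 0) :
    ((e : F') ≠ 0 → LocRes.diffExp φ ψ e x = (e : ℤ) - 1) ∧
      ((e : F') = 0 → (e : ℤ) ≤ LocRes.diffExp φ ψ e x) := by
  obtain ⟨t, ht⟩ := Place.exists_val_eq_exp P (-1)
  have h := diffExp_eq hK hsep he hφ hψ hx hx' ht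
  have hg : Valued.v (ψ (algebraMap K K' t)) = exp (-(e : ℤ)) := by
    rw [hψ.1, he, ht, ← exp_nsmul]
    simp
  refine ⟨fun hne => ?_, fun h0 => ?_⟩
  · rw [vD_eq hg (by simpa using hne), exp_inj] at h
    omega
  · have h2 := vD_le' hg.le (by simpa using h0)
    rw [h, exp_le_exp] at h2
    omega

end Ext

end Groth.Agent.H81.Diff.Basic
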