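import Groth.Agent.H81.Quadratic
import Mathlib.RingTheory.Valuation.Extension
/-!
# Residue degree one
-/

set_option autoImplicit false

namespace Groth.Agent.H81.Diff.Degree

open Groth.Agent.Lib.FunFld

universe u v
variable {k : Type u} {K K' : Type v} [Field k] [Field K] [Field K'] [Algebra k K] [Algebra K K']
  [Algebra k K'] [IsScalarTower k K K'] [FiniteDimensional K K']

set_option backward.isDefEq.respectTransparency false in
theorem deg_eq_of_surjective (hK : _root_.FunFld.IsFunctionField k K) {P : _root_.FunFld.Place k K}
    {Q : _root_.FunFld.Place k K'} {e : ℕ} (he : _root_.FunFld.IsOverWith Q P e) [P.1.HasExtension Q.1]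
    (hf : Function.Surjective (algebraMap (IsLocalRing.ResidueField P.O) (IsLocalRing.ResidueField Q.O))) :
    Q.deg = P.deg := by
  have := Existence.finiteDimensional_residueField hK P
  let L : IsLocalRing.ResidueField P.O →ₗ[k] IsLocalRing.ResidueField Q.O :=
    { toFun := algebraMap (IsLocalRing.ResidueField P.O) (IsLocalRing.ResidueField Q.O)
      map_add' := map_add _
      map_smul' := fun c a => by
        obtain ⟨a, rfl⟩ := IsLocalRing.residue_surjective a
        rw [RingHom.id_apply]
        show IsLocalRing.residue Q.O (algebraMap P.O Q.O (c • a)) =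
          IsLocalRing.residue Q.O (c • algebraMap P.O Q.O a)
        congr 1
        refine Subtype.ext ?_
        show algebraMap K K' ((c • a : P.O) : K) = ((c • algebraMap P.O Q.O a : Q.O) : K')
        rw [Algebra.smul_def, Algebra.smul_def]
        show algebraMap K K' ((algebraMap k P.O c : P.O) * (a : K)) =
          (algebraMap k Q.O c : Q.O) * algebraMap K K' (a : K)
        rw [map_mul, Place.coe_algebraMap_O, Place.coe_algebraMap_O, ← IsScalarTower.algebraMap_apply] }
  exact le_antisymm (LinearMap.finrank_le_finrank_of_surjective (f := L) hf)
    (Quadratic.deg_le_of_isOverWith hK he)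

end Groth.Agent.H81.Diff.Degree
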