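import Groth.Agent.H81.Diff.Minpoly
import Groth.Agent.H81.Diff.Degree
import Groth.Agent.H81.IntClosure
import Groth.Agent.Lib.FunFld.Approx
import Mathlib.RingTheory.DedekindDomain.Different
/-!
# The trace dual of the integral closure of a place

For a place `Q | P` of residue degree one there are a parameter `s` and `w ∈ O_Q^×` with `w R ⊆ O_P[s]`.
-/

set_option autoImplicit false

namespace Groth.Agent.H81.Diff.Dual

open WithZero Polynomial Groth.Agent.Lib.FunFld

universe u v
variable {k : Type u} {K K' : Type v} [Field k] [Field K] [Field K'] [Algebra k K] [Algebra K K']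
  [Algebra k K'] [IsScalarTower k K K'] [FiniteDimensional K K']
variable {P : _root_.FunFld.Place k K} [Algebra P.O K'] [IsScalarTower P.O K K']

omit [Algebra k K'] [IsScalarTower k K K'] in
theorem dual_iff [Algebra.IsSeparable K K'] {y : K'}
    (hy : IntermediateField.adjoin K ({y} : Set K') = ⊤) (hyi : IsIntegral P.O y) (u : K') :
    (∀ z ∈ Algebra.adjoin P.O ({y} : Set K'), P.1 (Algebra.trace K K' (u * z)) ≤ 1) ↔
      aeval y (derivative (minpoly K y)) * u ∈ Algebra.adjoin P.O ({y} : Set K') := by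
  have htop : Algebra.adjoin K ({y} : Set K') = ⊤ := by
    rw [← IntermediateField.adjoin_simple_toSubalgebra_of_isAlgebraic (Algebra.IsAlgebraic.isAlgebraic y),
      hy, IntermediateField.top_toSubalgebra]
  have key := traceForm_dualSubmodule_adjoin P.O K htop hyi
  have hne : aeval y (derivative (minpoly K y)) ≠ 0 :=
    (Algebra.IsSeparable.isSeparable K y).aeval_derivative_ne_zero (minpoly.aeval K y)
  constructor
  · intro h
    have hu : u ∈ (Algebra.traceForm K K').dualSubmodule
        (Subalgebra.toSubmodule (Algebra.adjoin P.O ({y} : Set K'))) := fun z hz => by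
      rw [Submodule.mem_one]
      exact ⟨⟨_, h z hz⟩, rfl⟩
    rw [key] at hu
    obtain ⟨a, ha, rfl⟩ := hu
    show _ * (_ * a) ∈ _
    rw [mul_inv_cancel_left₀ hne]
    exact ha
  · intro h z hz
    have hu : u ∈ (Algebra.traceForm K K').dualSubmodule
        (Subalgebra.toSubmodule (Algebra.adjoin P.O ({y} : Set K'))) := by
      rw [key]
      exact ⟨_, h, inv_mul_cancel_left₀ hne u⟩
    obtain ⟨c, hc⟩ := Submodule.mem_one.1 (hu z hz)
    rw [← Algebra.traceForm_apply, ← hc]
    exact c.2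

theorem adjoin_le (hK : _root_.FunFld.IsFunctionField k K) {y : K'} (hyi : IsIntegral P.O y) {z : K'}
    (hz : z ∈ Algebra.adjoin P.O ({y} : Set K')) {R : _root_.FunFld.Place k K'}
    (hR : _root_.FunFld.IsOver R P) : R.1 z ≤ 1 :=
  (IntClosure.isIntegral_iff hK).1 (adjoin_le_integralClosure hyi hz) R hR

omit [Algebra k K'] [IsScalarTower k K K'] [FiniteDimensional K K'] in
theorem exists_clear {s z : K'} (hz : z ∈ Algebra.adjoin K ({s} : Set K')) {t : K} (ht : P.1 t = exp (-1)) :
    ∃ m : ℕ, ∀ n, m ≤ n → algebraMap K K' t ^ n * z ∈ Algebra.adjoin P.O ({s} : Set K') := by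
  have htO : P.1 t ≤ 1 := ht.le.trans ((exp_le_exp.2 (by norm_num)).trans exp_zero.le)
  have hmem : ∀ n : ℕ, algebraMap K K' t ^ n ∈ Algebra.adjoin P.O ({s} : Set K') := fun n => by
    rw [← IntClosure.algebraMap_O (K' := K') (⟨t, htO⟩ : P.O)]
    exact Subalgebra.pow_mem _ (Subalgebra.algebraMap_mem _ _) n
  induction hz using Algebra.adjoin_induction with
  | mem x hx => exact ⟨0, fun n _ => mul_mem (hmem n) (Algebra.subset_adjoin hx)⟩
  | algebraMap r =>
    refine ⟨(-P.ord r).toNat, fun n hn => ?_⟩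
    have hr : P.1 (t ^ n * r) ≤ 1 := by
      rcases eq_or_ne r 0 with rfl | hr0
      · simp
      rw [map_mul, map_pow, ht, Place.val_eq_exp P hr0, ← exp_nsmul, ← exp_add]
      refine (exp_le_exp.2 ?_).trans exp_zero.le
      simp only [nsmul_eq_mul, mul_neg, mul_one]
      omega
    rw [← map_pow, ← map_mul, ← IntClosure.algebraMap_O (K' := K') (⟨_, hr⟩ : P.O)]
    exact Subalgebra.algebraMap_mem _ _
  | add x y _ _ hx hy =>
    obtain ⟨a, ha⟩ := hx
    obtain ⟨b, hb⟩ := hy
    exact ⟨max a b, fun n hn => mul_add (algebraMap K K' t ^ n) x y ▸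
      add_mem (ha n (le_of_max_le_left hn)) (hb n (le_of_max_le_right hn))⟩
  | mul x y _ _ hx hy =>
    obtain ⟨a, ha⟩ := hx
    obtain ⟨b, hb⟩ := hy
    refine ⟨a + b, fun n hn => ?_⟩
    have := mul_mem (ha a le_rfl) (hb (n - a) (by omega))
    rwa [mul_mul_mul_comm, ← pow_add, show a + (n - a) = n by omega] at this

theorem exists_conductor (hK : _root_.FunFld.IsFunctionField k K) {s : K'}
    (hs : IntermediateField.adjoin K ({s} : Set K') = ⊤) {t : K} (ht : P.1 t = exp (-1)) :
    ∃ N : ℕ, ∀ z : K', IsIntegral P.O z → algebraMap K K' t ^ N * z ∈ Algebra.adjoin P.O ({s} : Set K') := by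
  classical
  have htop : Algebra.adjoin K ({s} : Set K') = ⊤ := by
    rw [← IntermediateField.adjoin_simple_toSubalgebra_of_isAlgebraic (Algebra.IsAlgebraic.isAlgebraic s),
      hs, IntermediateField.top_toSubalgebra]
  have := IntClosure.finite (K' := K') (P := P) hK
  obtain ⟨G, hG⟩ := (Module.Finite.fg_top : (⊤ : Submodule P.O (integralClosure P.O K')).FG)
  choose m hm using fun z : K' => exists_clear (P := P) (s := s) (z := z) (htop ▸ Algebra.mem_top) ht
  refine ⟨G.sup fun g => m g, fun z hz => ?_⟩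
  have hmem : (⟨z, hz⟩ : integralClosure P.O K') ∈ Submodule.span P.O (G : Set (integralClosure P.O K')) :=
    hG ▸ Submodule.mem_top
  suffices h : ∀ v ∈ Submodule.span P.O (G : Set (integralClosure P.O K')),
      algebraMap K K' t ^ (G.sup fun g => m g) * (v : K') ∈ Algebra.adjoin P.O ({s} : Set K') from h _ hmem
  intro v hv
  induction hv using Submodule.span_induction with
  | mem x hx => exact hm _ _ (Finset.le_sup (f := fun g : integralClosure P.O K' => m g) hx)
  | zero => simp
  | add x y _ _ hx hy => rw [Subalgebra.coe_add, mul_add]; exact add_mem hx hy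
  | smul c x _ hx => rw [Subalgebra.coe_smul, mul_smul_comm]; exact Subalgebra.smul_mem _ hx c

omit [Algebra P.O K'] [IsScalarTower P.O K K'] in
theorem exists_param (hK : _root_.FunFld.IsFunctionField k K) {Q : _root_.FunFld.Place k K'} :
    ∃ s : K', Q.1 s = exp (-1) ∧
      ∀ R : _root_.FunFld.Place k K', _root_.FunFld.IsOver R P → R ≠ Q → R.1 s = 1 := by
  classical
  obtain ⟨t, ht⟩ := Place.exists_val_eq_exp Q (-1)
  let S := insert Q (Ext.finite_over (K' := K') hK P).toFinset
  obtain ⟨s, hs⟩ := Approx.approximation S (fun R => if R = Q then t else 1) (fun _ => -2)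
  refine ⟨s, ?_, fun R hR hne => ?_⟩
  · have h := hs Q (Finset.mem_insert_self ..)
    rw [if_pos rfl] at h
    rw [show s = t + (s - t) by ring, Valuation.map_add_eq_of_lt_left, ht]
    rw [ht]
    exact h.trans_lt (exp_lt_exp.2 (by norm_num))
  · have h := hs R (Finset.mem_insert_of_mem ((Set.Finite.mem_toFinset _).2 hR))
    rw [if_neg hne] at h
    rw [show s = 1 + (s - 1) by ring, Valuation.map_add_eq_of_lt_left, map_one]
    rw [map_one]
    exact h.trans_lt ((exp_lt_exp.2 (by norm_num)).trans_eq exp_zero)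

theorem isIntegral_param (hK : _root_.FunFld.IsFunctionField k K) {Q : _root_.FunFld.Place k K'} {s : K'}
    (hs : Q.1 s = exp (-1))
    (hs' : ∀ R : _root_.FunFld.Place k K', _root_.FunFld.IsOver R P → R ≠ Q → R.1 s = 1) :
    IsIntegral P.O s :=
  (IntClosure.isIntegral_iff hK).2 fun R hR => by
    by_cases h : R = Q
    · rw [h, hs]; exact (exp_le_exp.2 (by norm_num)).trans exp_zero.le
    · exact (hs' R hR h).le

omit [IsScalarTower k K K'] [FiniteDimensional K K'] [Algebra P.O K'] [IsScalarTower P.O K K'] in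
set_option backward.isDefEq.respectTransparency false in
theorem exists_digit {Q : _root_.FunFld.Place k K'} [P.1.HasExtension Q.1]
    (hf : Function.Surjective (algebraMap (IsLocalRing.ResidueField P.O) (IsLocalRing.ResidueField Q.O)))
    {z : K'} (hz : Q.1 z ≤ 1) : ∃ c : P.O, Q.1 (z - algebraMap K K' (c : K)) < 1 := by
  obtain ⟨r, hr⟩ := hf (IsLocalRing.residue Q.O ⟨z, hz⟩)
  obtain ⟨c, rfl⟩ := IsLocalRing.residue_surjective r
  refine ⟨c, ?_⟩
  have h0 : IsLocalRing.residue Q.O (⟨z, hz⟩ - algebraMap P.O Q.O c) = 0 := by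
    rw [map_sub, sub_eq_zero]; exact hr.symm
  exact (Place.res_eq_zero_iff Q _).1 h0

theorem exists_expand {Q : _root_.FunFld.Place k K'} [P.1.HasExtension Q.1]
    (hf : Function.Surjective (algebraMap (IsLocalRing.ResidueField P.O) (IsLocalRing.ResidueField Q.O)))
    {s : K'} (hs : Q.1 s = exp (-1)) {z : K'} (hz : Q.1 z ≤ 1) (M : ℕ) :
    ∃ a ∈ Algebra.adjoin P.O ({s} : Set K'), Q.1 (z - a) ≤ exp (-(M : ℤ)) := by
  induction M with
  | zero => exact ⟨0, zero_mem _, by simpa using hz⟩
  | succ M ih =>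
    obtain ⟨a, ha, hb⟩ := ih
    have hs0 : s ≠ 0 := fun h => exp_ne_zero (a := (-1 : ℤ)) (by rw [← hs, h, map_zero])
    have hq : Q.1 ((z - a) / s ^ M) ≤ 1 := by
      rw [map_div₀, map_pow, hs, ← exp_nsmul, div_le_one₀ exp_pos]
      exact hb.trans (exp_le_exp.2 (by simp))
    obtain ⟨c, hc⟩ := exists_digit hf hq
    refine ⟨a + algebraMap P.O K' c * s ^ M, add_mem ha (mul_mem (Subalgebra.algebraMap_mem _ _)
      (Subalgebra.pow_mem _ (Algebra.self_mem_adjoin_singleton _ _) _)), ?_⟩
    rw [IntClosure.algebraMap_O,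
      show z - (a + algebraMap K K' (c : K) * s ^ M) = ((z - a) / s ^ M - algebraMap K K' (c : K)) * s ^ M by
        field_simp; ring,
      map_mul, map_pow, hs, ← exp_nsmul]
    have hc' : Q.1 ((z - a) / s ^ M - algebraMap K K' (c : K)) ≤ exp (-1) := by
      rcases eq_or_ne (Q.1 ((z - a) / s ^ M - algebraMap K K' (c : K))) 0 with h0 | h0
      · rw [h0]; exact zero_le
      · rw [← exp_log h0] at hc ⊢
        rw [exp_le_exp]
        have := exp_lt_exp.1 (hc.trans_eq exp_zero.symm)
        omega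
    refine (mul_le_mul' hc' le_rfl).trans ?_
    rw [← exp_add, exp_le_exp]
    simp

theorem exists_idempotent (hK : _root_.FunFld.IsFunctionField k K) {Q : _root_.FunFld.Place k K'} {e : ℕ}
    (he : _root_.FunFld.IsOverWith Q P e) {s : K'} (hs : Q.1 s = exp (-1))
    (hs' : ∀ R : _root_.FunFld.Place k K', _root_.FunFld.IsOver R P → R ≠ Q → R.1 s = 1) :
    ∃ h ∈ Algebra.adjoin P.O ({s} : Set K'), Q.1 h = 1 ∧
      ∀ R : _root_.FunFld.Place k K', _root_.FunFld.IsOver R P → R ≠ Q → R.1 h < 1 := by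
  classical
  have hi := isIntegral_param hK hs hs'
  let f := minpoly P.O s
  have hex : ∃ i, P.1 ((f.coeff i : P.O) : K) = 1 := ⟨f.natDegree, by
    rw [coeff_natDegree, (minpoly.monic hi).leadingCoeff]; simp⟩
  let j := Nat.find hex
  have hj : P.1 ((f.coeff j : P.O) : K) = 1 := Nat.find_spec hex
  have hlt : ∀ i, i < j → P.1 ((f.coeff i : P.O) : K) < 1 := fun i h =>
    lt_of_le_of_ne (f.coeff i).2 (Nat.find_min hex h)
  let n := f.natDegree + 1
  have hjn : j < n := Nat.lt_succ_of_le (Nat.find_le (by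
    rw [coeff_natDegree, (minpoly.monic hi).leadingCoeff]; simp))
  let c : ℕ → K' := fun i => algebraMap P.O K' (f.coeff i)
  have hc : ∀ i, ∀ R : _root_.FunFld.Place k K', ∀ e', _root_.FunFld.IsOverWith R P e' →
      R.1 (c i) = P.1 ((f.coeff i : P.O) : K) ^ e' := fun i R e' hR => by
    show R.1 (algebraMap P.O K' (f.coeff i)) = _
    rw [IntClosure.algebraMap_O]
    exact hR _
  let h := ∑ i ∈ Finset.Ico j n, c i * s ^ (i - j)
  have heq : (∑ i ∈ Finset.range j, c i * s ^ i) + s ^ j * h = 0 := by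
    have h0 : ∑ i ∈ Finset.range n, c i * s ^ i = 0 := by
      refine Eq.trans ?_ (minpoly.aeval P.O s)
      rw [aeval_eq_sum_range' (show (minpoly P.O s).natDegree < n from Nat.lt_succ_self _)]
      simp only [c, f, Algebra.smul_def]
    rw [← Finset.sum_range_add_sum_Ico _ hjn.le] at h0
    refine Eq.trans ?_ h0
    congr 1
    rw [Finset.mul_sum]
    refine Finset.sum_congr rfl fun i hi => ?_
    rw [mul_left_comm, ← pow_add, Nat.add_sub_cancel' (Finset.mem_Ico.1 hi).1]
  refine ⟨h, sum_mem fun i _ => mul_mem (Subalgebra.algebraMap_mem _ _)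
    (Subalgebra.pow_mem _ (Algebra.self_mem_adjoin_singleton _ _) _), ?_, ?_⟩
  · show Q.1 (∑ i ∈ Finset.Ico j n, c i * s ^ (i - j)) = 1
    rw [Finset.sum_eq_sum_Ico_succ_bot hjn]
    have h1 : Q.1 (c j * s ^ (j - j)) = 1 := by rw [Nat.sub_self, pow_zero, mul_one, hc j Q e he, hj, one_pow]
    rw [Valuation.map_add_eq_of_lt_left _ ?_, h1]
    rw [h1]
    refine Valuation.map_sum_lt _ one_ne_zero fun i hi => ?_
    rw [map_mul, map_pow, hc i Q e he, hs]
    refine (mul_le_of_le_one_left' (pow_le_one₀ zero_le (f.coeff i).2)).trans_lt ?_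
    exact pow_lt_one₀ zero_le ((exp_lt_exp.2 (by norm_num)).trans_eq exp_zero)
      (by have := (Finset.mem_Ico.1 hi).1; omega)
  · intro R hR hne
    obtain ⟨e', he'⟩ := hR
    have h1 : R.1 (s ^ j * h) < 1 := by
      rw [eq_neg_of_add_eq_zero_right heq, Valuation.map_neg]
      refine Valuation.map_sum_lt _ one_ne_zero fun i hi => ?_
      rw [map_mul, map_pow, hs' R ⟨e', he'⟩ hne, one_pow, mul_one, hc i R e' he']
      exact pow_lt_one₀ zero_le (hlt i (Finset.mem_range.1 hi)) (Ext.pos_of_isOverWith he').ne'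
    rwa [map_mul, map_pow, hs' R ⟨e', he'⟩ hne, one_pow, one_mul] at h1

/-- A unit at `Q` multiplying the integral closure into `O_P[s]`. -/
theorem exists_unit_mul (hK : _root_.FunFld.IsFunctionField k K) {Q : _root_.FunFld.Place k K'} {e : ℕ}
    (he : _root_.FunFld.IsOverWith Q P e) [P.1.HasExtension Q.1]
    (hf : Function.Surjective (algebraMap (IsLocalRing.ResidueField P.O) (IsLocalRing.ResidueField Q.O)))
    {s : K'} (hs : Q.1 s = exp (-1))
    (hs' : ∀ R : _root_.FunFld.Place k K', _root_.FunFld.IsOver R P → R ≠ Q → R.1 s = 1)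
    (hgen : IntermediateField.adjoin K ({s} : Set K') = ⊤) :
    ∃ w : K', Q.1 w = 1 ∧ ∀ z : K', IsIntegral P.O z → w * z ∈ Algebra.adjoin P.O ({s} : Set K') := by
  classical
  obtain ⟨t, ht⟩ := Place.exists_val_eq_exp P (-1)
  obtain ⟨N, hN⟩ := exists_conductor (K' := K') hK hgen ht
  obtain ⟨h, hh, hhQ, hhR⟩ := exists_idempotent hK he hs hs'
  let S := (Ext.finite_over (K' := K') hK P).toFinset
  let M := S.sup fun R => N * _root_.FunFld.ramIdx R P
  refine ⟨h ^ M, by rw [map_pow, hhQ, one_pow], fun z hz => ?_⟩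
  have hz1 := (IntClosure.isIntegral_iff hK).1 hz
  obtain ⟨a, ha, hza⟩ := exists_expand hf hs (hz1 Q ⟨e, he⟩) M
  have ht0 : algebraMap K K' t ^ N ≠ 0 := by
    refine pow_ne_zero _ ((_root_.map_ne_zero _).2 fun h => exp_ne_zero (a := (-1 : ℤ)) ?_)
    rw [← ht, h, map_zero]
  have hint : IsIntegral P.O ((h ^ M * z - h ^ M * a) / algebraMap K K' t ^ N) := by
    refine (IntClosure.isIntegral_iff hK).2 fun R hR => ?_
    obtain ⟨e', he'⟩ := hR
    have hMR : N * e' ≤ M := by
      rw [← Ext.ramIdx_eq he']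
      exact Finset.le_sup (f := fun R => N * _root_.FunFld.ramIdx R P) ((Set.Finite.mem_toFinset _).2 ⟨e', he'⟩)
    have hsmall : R.1 (h ^ M * (z - a)) ≤ exp (-(M : ℤ)) := by
      rw [map_mul, map_pow]
      by_cases hne : R = Q
      · subst hne
        rw [hhQ, one_pow, one_mul]
        exact hza
      · refine (mul_le_of_le_one_right' ?_).trans (Approx.val_le_of_lt_one (hhR R ⟨e', he'⟩ hne) M)
        exact R.1.map_sub_le (hz1 R ⟨e', he'⟩) (adjoin_le hK (isIntegral_param hK hs hs') ha ⟨e', he'⟩)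
    rw [← mul_sub, map_div₀, map_pow, he', ht, ← exp_nsmul, ← exp_nsmul, div_le_one₀ exp_pos]
    refine hsmall.trans (exp_le_exp.2 ?_)
    simp
    exact_mod_cast hMR
  have := add_mem (hN _ hint) (mul_mem (Subalgebra.pow_mem _ hh M) ha)
  rwa [mul_div_cancel₀ _ ht0, sub_add_cancel] at this

end Groth.Agent.H81.Diff.Dual
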