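import Groth.Agent.H81.Diff.Basic
import Groth.Agent.H81.RatPlace
import Groth.Agent.Lib.FunFld.Res.Omega
import Groth.Agent.Lib.FunFld.Ext
/-!
# Regular differentials on covers of the line
-/

set_option autoImplicit false

namespace Groth.Agent.H81.Diff.Regular

open WithZero Polynomial Groth.Agent.Lib.FunFld

universe u v w
variable {k : Type u} [Field k] {K : Type v} [Field K] [Algebra k K] [Algebra (RatFunc k) K]
  [IsScalarTower k (RatFunc k) K]

local notation "ι" => algebraMap k[X] (RatFunc k)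

local notation "x₀" => algebraMap (RatFunc k) K RatFunc.X

theorem isSep_X [Algebra.IsSeparable (RatFunc k) K] : Hasse.Separable.IsSep k x₀ := by
  let A := IntermediateField.adjoin k ({x₀} : Set K)
  have hmem : ∀ a : RatFunc k, algebraMap (RatFunc k) K a ∈ A := fun a => by
    have ha : a ∈ IntermediateField.adjoin k ({RatFunc.X} : Set (RatFunc k)) := by
      rw [RatPlace.adjoin_X_eq_top]; exact IntermediateField.mem_top
    have h1 : IsScalarTower.toAlgHom k (RatFunc k) K a ∈
        (IntermediateField.adjoin k ({RatFunc.X} : Set (RatFunc k))).map (IsScalarTower.toAlgHom k (RatFunc k) K) :=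
      ⟨a, ha, rfl⟩
    rwa [IntermediateField.adjoin_map, Set.image_singleton] at h1
  let j : RatFunc k →+* A :=
    { toFun := fun a => ⟨_, hmem a⟩
      map_one' := Subtype.ext (map_one _)
      map_mul' := fun a b => Subtype.ext (map_mul (algebraMap (RatFunc k) K) a b)
      map_zero' := Subtype.ext (map_zero _)
      map_add' := fun a b => Subtype.ext (map_add (algebraMap (RatFunc k) K) a b) }
  let _ := j.toAlgebra
  have : IsScalarTower (RatFunc k) A K := IsScalarTower.of_algebraMap_eq fun _ => rfl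
  exact Algebra.isSeparable_tower_top_of_isSeparable (RatFunc k) A K

theorem D_ne_zero [Algebra.IsSeparable (RatFunc k) K] {F : Type w} [Field F] [Algebra k F]
    {P : _root_.FunFld.Place k K} {φ : K →ₐ[k] LaurentSeries F} (hφ : LocRes.IsExpansionAt P.1 φ) :
    KaehlerDifferential.D k K x₀ ≠ 0 :=
  fun h => Res.SepRes.D_ne_zero_of_isSep hφ isSep_X (Res.SepRes.D_eq_zero_of_kaehler φ h)

omit [Algebra (RatFunc k) K] [IsScalarTower k (RatFunc k) K] in
theorem D_aeval {F : Type w} [Field F] [Algebra k F] (φ : K →ₐ[k] LaurentSeries F) (x : K) (p : k[X]) :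
    LocRes.D F (φ (aeval x p)) = φ (aeval x (derivative p)) * LocRes.D F (φ x) :=
  Basic.D_of_kaehler φ (Derivation.map_aeval _ _ _)

theorem aeval_X (p : k[X]) : aeval x₀ p = algebraMap (RatFunc k) K (ι p) := by
  rw [← RatPlace.aeval_X, aeval_algebraMap_apply]

section Place

variable {F : Type w} [Field F] [Algebra k F] [FiniteDimensional k F] {Q : _root_.FunFld.Place k K}
  {φ : K →ₐ[k] LaurentSeries F}

/-- At a place over a finite place of the line with ramification `e`, `dx` vanishes to order at least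
`e - 1`. -/
theorem vDx_le [Algebra.IsSeparable (RatFunc k) K] (hφ : LocRes.IsExpansionAt Q.1 φ)
    {P : _root_.FunFld.Place k (RatFunc k)} {e : ℕ} (he : _root_.FunFld.IsOverWith Q P e)
    {p : k[X]} (hp : Irreducible p) (hlt : P.1 (ι p) < 1) :
    Valued.v (LocRes.D F (φ x₀)) ≤ exp (-((e : ℤ) - 1)) := by
  have he0 := Ext.pos_of_isOverWith he
  have hsep := Res.SepRes.isSeparable_of_expansion hφ ⟨x₀, isSep_X⟩
  have hxO : Q.1 x₀ ≤ 1 := by
    rw [he]
    exact pow_le_one₀ zero_le ((Place.val_le_one_iff P).2 (RatPlace.X_nonneg_of_irreducible P hp hlt))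
  let x' : Q.O := ⟨x₀, hxO⟩
  have hev : ∀ q : k[X], ((aeval x' q : Q.O) : K) = algebraMap (RatFunc k) K (ι q) := fun q => by
    rw [← aeval_X]
    exact (aeval_algHom_apply (IsScalarTower.toAlgHom k Q.O K) x' q).symm
  have hqO : ∀ q : k[X], Q.1 (algebraMap (RatFunc k) K (ι q)) ≤ 1 := fun q => by
    rw [← hev]; exact (aeval x' q).2
  have hdlt : ¬ Q.1 (algebraMap (RatFunc k) K (ι (derivative p))) < 1 := by
    rw [← hev, ← Res.Coef.resHom_eq_zero_iff hφ, ← aeval_algHom_apply]
    set a := Res.Coef.resHom hφ x'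
    have ha : aeval a p = 0 := by
      rw [aeval_algHom_apply, Res.Coef.resHom_eq_zero_iff hφ, hev, he]
      exact pow_lt_one₀ zero_le hlt he0.ne'
    have hsepp : p.Separable := by
      obtain ⟨c, hc⟩ := minpoly.dvd k a ha
      have hunit : IsUnit c :=
        ((irreducible_mul_iff.1 (hc ▸ hp)).resolve_right fun h =>
          (minpoly.irreducible (Algebra.IsIntegral.isIntegral a)).not_isUnit h.2).2
      exact hc ▸ (Algebra.IsSeparable.isSeparable k a).mul_unit hunit
    exact hsepp.aeval_derivative_ne_zero ha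
  have hd : Valued.v (φ (aeval x₀ (derivative p))) = 1 := by
    rw [hφ.1, aeval_X]
    exact le_antisymm (hqO _) (not_lt.1 hdlt)
  have h1 : Valued.v (LocRes.D F (φ (aeval x₀ p))) ≤ exp (-((e : ℤ) - 1)) := by
    refine Basic.vD_le ?_
    rw [hφ.1, aeval_X, he, Place.val_eq_exp P (RatPlace.ι_ne_zero hp.ne_zero), RatPlace.ord_irreducible P hp hlt,
      ← exp_nsmul]
    simp
  rwa [D_aeval, map_mul, hd, one_mul] at h1

omit [FiniteDimensional k F] in
omit [IsScalarTower k (RatFunc k) K] in
theorem vDx_le_one (hφ : LocRes.IsExpansionAt Q.1 φ) {P : _root_.FunFld.Place k (RatFunc k)} {e : ℕ}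
    (he : _root_.FunFld.IsOverWith Q P e) (hX : 0 ≤ P.ord (RatFunc.X : RatFunc k)) :
    Valued.v (LocRes.D F (φ x₀)) ≤ 1 := by
  refine Basic.vD_le_one ((hφ.1 _).trans_le ?_)
  rw [he]
  exact pow_le_one₀ zero_le ((Place.val_le_one_iff P).2 hX)

omit [FiniteDimensional k F] in
omit [IsScalarTower k (RatFunc k) K] in
theorem vDx_inf (hφ : LocRes.IsExpansionAt Q.1 φ) {P : _root_.FunFld.Place k (RatFunc k)} {e : ℕ}
    (he : _root_.FunFld.IsOverWith Q P e) (hX : P.ord (RatFunc.X : RatFunc k) < 0) :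
    Valued.v (LocRes.D F (φ x₀)) ≤ exp ((e : ℤ) + 1) ∧
      ((e : F) = 0 → Valued.v (LocRes.D F (φ x₀)) ≤ exp (e : ℤ)) := by
  have h : Valued.v (φ x₀) = exp (-(-(e : ℤ))) := by
    rw [hφ.1, he, Place.val_eq_exp P RatFunc.X_ne_zero, RatPlace.ord_X_eq_neg_one P hX, ← exp_nsmul]
    simp
  refine ⟨(Basic.vD_le h.le).trans_eq (by congr 1; ring), fun h0 => ?_⟩
  exact (Basic.vD_le' h.le (by simpa using h0)).trans_eq (by congr 1; ring)

end Place

variable {F : _root_.FunFld.Place k K → Type w} [∀ P, Field (F P)] [∀ P, Algebra k (F P)]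
  [∀ P, FiniteDimensional k (F P)] (φ : ∀ P, K →ₐ[k] LaurentSeries (F P))

/-- `g` independent regular differentials span all of them. -/
theorem spans (hK : _root_.FunFld.IsFunctionField k K)
    (hφ : ∀ P : _root_.FunFld.Place k K, LocRes.IsExpansionAt P.1 (φ P))
    [Algebra.IsSeparable (RatFunc k) K] (s : k[X] →ₗ[k] K) (hs : Function.Injective s)
    (hreg : ∀ i : ℕ, i < _root_.FunFld.genus k K → ∀ P, LocRes.vDiff (φ P) (s (X ^ i)) x₀ ≤ 1)
    (z : K) (hz : ∀ P, LocRes.vDiff (φ P) z x₀ ≤ 1) :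
    ∃ a : k[X], a.degree < (_root_.FunFld.genus k K : WithBot ℕ) ∧ z = s a := by
  classical
  obtain ⟨t, ht⟩ := Riemann.exists_transcendental hK
  obtain ⟨P₀, -⟩ := Existence.exists_zero hK ht
  have hD : KaehlerDifferential.D k K x₀ ≠ 0 := D_ne_zero (hφ P₀)
  obtain ⟨C, hC⟩ := Weil.exists_isCanonical hK
  have h := Res.Omega.finrank_span φ hφ hK ⟨_, isSep_X⟩ hD (0 : _root_.FunFld.Divisor k K)
  rw [Weil.finrank_WD_eq_ell hK hC, sub_zero, Weil.ell_canonical hK hC] at h
  set g := _root_.FunFld.genus k K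
  set S : Submodule k K := Submodule.span k {y : K | ∀ P, LocRes.vDiff (φ P) y x₀ ≤ 1} with hSdef
  have hS : Module.finrank k S = g := by
    refine Eq.trans ?_ h
    rw [hSdef]
    congr 1
  let W := (degreeLT k g).map s
  have hW : W ≤ S := by
    rw [Submodule.map_le_iff_le_comap, degreeLT_eq_span_X_pow, Submodule.span_le]
    intro q hq
    rw [Finset.coe_image] at hq
    obtain ⟨i, hi, rfl⟩ := hq
    exact Submodule.subset_span (hreg i (by simpa using hi))
  have hWg : Module.finrank k W = g := by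
    rw [← (Submodule.equivMapOfInjective s hs (degreeLT k g)).finrank_eq, (degreeLTEquiv k g).finrank_eq,
      Module.finrank_pi, Fintype.card_fin]
  have hmem : z ∈ S := Submodule.subset_span hz
  rcases Nat.eq_zero_or_pos g with hg0 | hg0
  · refine ⟨0, by rw [degree_zero]; exact WithBot.bot_lt_coe _, ?_⟩
    rw [map_zero]
    by_contra hz0
    -- a nonzero regular differential would make a nonzero Weil differential in `WD 0`
    have hfd : FiniteDimensional k (_root_.FunFld.WD (0 : _root_.FunFld.Divisor k K)) := by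
      obtain ⟨ω, hω0, hω⟩ := hC
      rw [← Weil.map_L_eq_WD hK hω hω0 0]
      have := Degree.finiteDimensional_L hK (C - 0)
      infer_instance
    have h0 : _root_.FunFld.WD (0 : _root_.FunFld.Divisor k K) = ⊥ := Submodule.finrank_eq_zero.1 (by
      rw [Weil.finrank_WD_eq_ell hK hC, sub_zero, Weil.ell_canonical hK hC]; exact hg0)
    refine Res.Omega.om_ne_zero φ hφ hK ⟨_, isSep_X⟩ hz0 hD ((Submodule.eq_bot_iff _).1 h0 _ ?_)
    exact Res.Omega.mem_WD φ hφ hK fun P => by simpa using hz P
  have : FiniteDimensional k S := Module.finite_of_finrank_pos (by omega)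
  rw [← Submodule.eq_of_le_of_finrank_eq hW (hWg.trans hS.symm)] at hmem
  obtain ⟨a, ha, rfl⟩ := hmem
  exact ⟨a, mem_degreeLT.1 ha, rfl⟩

end Groth.Agent.H81.Diff.Regular
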