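import Groth.Agent.H81.Diff.Basic
import Groth.Agent.H81.Diff.Regular
import Groth.Agent.H81.Inertia
import Groth.Agent.H81.ConstField
import Mathlib.FieldTheory.Galois.Basic
import Mathlib.Algebra.Polynomial.Identities
/-!
# Hilbert's formula for the different exponent

With `T` the inertia group, `L` its fixed field and `s` a parameter at `Q`, the exponent is the order of
`f'(s)` for `f = ∏_{σ ∈ T} (X - σ s)`: differentiate `f(s) = 0` through the expansion at `Q`.
-/

set_option autoImplicit false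

namespace Groth.Agent.H81.Diff.Hilbert

open WithZero Polynomial Groth.Agent.Lib.FunFld
open scoped Pointwise

universe u v w
variable {k : Type u} {K K' : Type v} [Field k] [Field K] [Field K'] [Algebra k K] [Algebra K K']
  [Algebra k K'] [IsScalarTower k K K'] [FiniteDimensional K K']

omit [FiniteDimensional K K'] in
theorem isSep_map [Algebra.IsSeparable K K'] {x : K} (hx : Hasse.Separable.IsSep k x) :
    Hasse.Separable.IsSep k (algebraMap K K' x) := by
  let A := IntermediateField.adjoin k ({x} : Set K)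
  let B := IntermediateField.adjoin k ({algebraMap K K' x} : Set K')
  have : Algebra.IsSeparable A K := hx
  have : Algebra.IsSeparable A K' := Algebra.IsSeparable.trans A K K'
  have hsub : A.map (IsScalarTower.toAlgHom k K K') ≤ B := by
    rw [IntermediateField.adjoin_map, Set.image_singleton]; exact le_refl B
  let j : A →+* B :=
    { toFun := fun a => ⟨_, hsub ⟨_, a.2, rfl⟩⟩
      map_one' := Subtype.ext (map_one _)
      map_mul' := fun a b => Subtype.ext (map_mul (algebraMap K K') (a : K) b)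
      map_zero' := Subtype.ext (map_zero _)
      map_add' := fun a b => Subtype.ext (map_add (algebraMap K K') (a : K) b) }
  let _ := j.toAlgebra
  have : IsScalarTower A B K' := IsScalarTower.of_algebraMap_eq fun _ => rfl
  exact Algebra.isSeparable_tower_top_of_isSeparable A B K'

omit [FiniteDimensional K K'] [IsScalarTower k K K'] [Algebra k K] [Algebra K K'] [Field K] in
/-- Every integral element satisfies a separable equation modulo the maximal ideal. -/
theorem exists_sep {Q : _root_.FunFld.Place k K'} {F : Type w} [Field F] [Algebra k F] [Algebra.IsSeparable k F]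
    {ψ : K' →ₐ[k] LaurentSeries F} (hψ : LocRes.IsExpansionAt Q.1 ψ) (z : Q.O) :
    ∃ g : k[X], g.Separable ∧ Q.1 (aeval (z : K') g) < 1 ∧ Q.1 (aeval (z : K') (derivative g)) = 1 := by
  have hev : ∀ q : k[X], ((aeval z q : Q.O) : K') = aeval (z : K') q := fun q =>
    (aeval_algHom_apply (IsScalarTower.toAlgHom k Q.O K') z q).symm
  set a := Res.Coef.resHom hψ z
  have hsep := Algebra.IsSeparable.isSeparable k a
  refine ⟨minpoly k a, hsep, ?_, ?_⟩
  · rw [← hev, ← Res.Coef.resHom_eq_zero_iff hψ, ← aeval_algHom_apply]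
    exact minpoly.aeval k a
  · refine le_antisymm ?_ (not_lt.1 ?_)
    · rw [← hev]; exact (aeval z (derivative (minpoly k a))).2
    · rw [← hev, ← Res.Coef.resHom_eq_zero_iff hψ, ← aeval_algHom_apply]
      exact hsep.aeval_derivative_ne_zero (minpoly.aeval k a)

theorem isScalarTower_O (Q : _root_.FunFld.Place k K') : IsScalarTower k Q.O K' :=
  IsScalarTower.of_algebraMap_eq fun c => by
    rw [Algebra.algebraMap_ofSubsemiring_apply]
    exact (Place.coe_algebraMap_O Q c).symm

omit [IsScalarTower k K K'] [FiniteDimensional K K'] [Algebra K K'] in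
theorem le_exp_of_lt_one {Q : _root_.FunFld.Place k K'} {z : K'} (h : Q.1 z < 1) : Q.1 z ≤ exp (-1) := by
  rcases eq_or_ne z 0 with rfl | hz
  · simp
  rw [Place.val_eq_exp Q hz] at h ⊢
  exact exp_le_exp.2 (by have := exp_lt_exp.1 (h.trans_eq exp_zero.symm); omega)

omit [IsScalarTower k K K'] [FiniteDimensional K K'] in
/-- An inertial automorphism moves everything at most as much as it moves a parameter. -/
theorem move_le {Q : _root_.FunFld.Place k K'} {F : Type w} [Field F] [Algebra k F] [Algebra.IsSeparable k F]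
    {ψ : K' →ₐ[k] LaurentSeries F} (hψ : LocRes.IsExpansionAt Q.1 ψ) {σ : K' →ₐ[k] K'}
    (hσ : ∀ z, Q.1 z ≤ 1 → Q.1 (σ z - z) ≤ exp (-1)) {s : K'} (hs : Q.1 s = exp (-1)) (N : ℕ) :
    ∀ z, Q.1 z ≤ 1 → Q.1 (σ z - z) ≤ max (Q.1 (σ s - s)) (exp (-(N : ℤ))) := by
  induction N with
  | zero =>
    exact fun z hz => le_max_of_le_right ((hσ z hz).trans (exp_le_exp.2 (by simp)))
  | succ N ih =>
    intro z hz
    obtain ⟨g, -, hg0, hg1⟩ := exists_sep hψ ⟨z, hz⟩
    have hs0 : s ≠ 0 := fun h => exp_ne_zero (a := (-1 : ℤ)) (by rw [← hs, h, map_zero])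
    obtain ⟨b, hb, hgb⟩ : ∃ b, Q.1 b ≤ 1 ∧ aeval z g = s * b := by
      refine ⟨aeval z g / s, ?_, (mul_div_cancel₀ _ hs0).symm⟩
      rw [map_div₀, hs, div_le_one₀ exp_pos]
      exact le_exp_of_lt_one hg0
    have hσ1 : ∀ w, Q.1 w ≤ 1 → Q.1 (σ w) ≤ 1 := fun w hw => by
      rw [show σ w = (σ w - w) + w by ring]
      exact (Q.1.map_add _ _).trans (max_le ((hσ w hw).trans ((exp_le_exp.2 (by norm_num)).trans exp_zero.le)) hw)
    have hrhs : Q.1 (σ (aeval z g) - aeval z g) ≤ max (Q.1 (σ s - s)) (exp (-((N + 1 : ℕ) : ℤ))) := by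
      rw [hgb, map_mul, show σ s * σ b - s * b = (σ s - s) * σ b + s * (σ b - b) by ring]
      refine (Q.1.map_add _ _).trans (max_le ?_ ?_)
      · rw [map_mul]; exact le_max_of_le_left (mul_le_of_le_one_right' (hσ1 b hb))
      · rw [map_mul, hs]
        refine (mul_le_mul' le_rfl (ih b hb)).trans ?_
        rw [mul_max]
        refine max_le_max (mul_le_of_le_one_left' ((exp_le_exp.2 (by norm_num)).trans exp_zero.le)) ?_
        rw [← exp_add]
        exact exp_le_exp.2 (by push_cast; omega)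
    have := isScalarTower_O Q
    let zO : Q.O := ⟨z, hz⟩
    let dO : Q.O := ⟨σ z - z, (hσ z hz).trans ((exp_le_exp.2 (by norm_num)).trans exp_zero.le)⟩
    obtain ⟨c, hc⟩ := (g.map (algebraMap k Q.O)).binomExpansion zO dO
    have hev : ∀ (q : k[X]) (w : Q.O), (((q.map (algebraMap k Q.O)).eval w : Q.O) : K') = aeval (w : K') q :=
      fun q w => by
        rw [eval_map, ← aeval_def]
        exact (aeval_algHom_apply (IsScalarTower.toAlgHom k Q.O K') w q).symm
    have hc' := congrArg (fun w : Q.O => (w : K')) hc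
    simp only [derivative_map] at hc'
    push_cast at hc'
    rw [hev, hev, hev] at hc'
    change aeval (z + (σ z - z)) g = aeval z g + aeval z (derivative g) * (σ z - z) + (c : K') * (σ z - z) ^ 2 at hc'
    rw [add_sub_cancel, aeval_algHom_apply] at hc'
    rw [hc', show aeval z g + aeval z (derivative g) * (σ z - z) + (c : K') * (σ z - z) ^ 2 - aeval z g =
      (aeval z (derivative g) + (c : K') * (σ z - z)) * (σ z - z) by ring, map_mul] at hrhs
    have hunit : Q.1 (aeval z (derivative g) + (c : K') * (σ z - z)) = 1 := by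
      rw [Valuation.map_add_eq_of_lt_left, hg1]
      rw [hg1, map_mul]
      refine (mul_le_mul' c.2 (hσ z hz)).trans_lt ?_
      rw [one_mul]
      exact (exp_lt_exp.2 (by norm_num)).trans_eq exp_zero
    rwa [hunit, one_mul] at hrhs

variable (K) in
/-- The inertia group: automorphisms moving integral elements into the maximal ideal. -/
def T (Q : _root_.FunFld.Place k K') : Subgroup (K' ≃ₐ[K] K') :=
  let M : Submonoid (K' ≃ₐ[K] K') :=
    { carrier := {σ | ∀ z, Q.1 z ≤ 1 → Q.1 (σ z - z) ≤ exp (-1)}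
      one_mem' := fun z _ => by simp
      mul_mem' := fun {σ τ} hσ hτ z hz => by
        have hτz : Q.1 (τ z) ≤ 1 := by
          rw [show τ z = (τ z - z) + z by ring]
          exact (Q.1.map_add _ _).trans (max_le ((hτ z hz).trans ((exp_le_exp.2 (by norm_num)).trans exp_zero.le)) hz)
        rw [show (σ * τ) z - z = (σ (τ z) - τ z) + (τ z - z) by rw [AlgEquiv.mul_apply]; ring]
        exact (Q.1.map_add _ _).trans (max_le (hσ _ hτz) (hτ z hz)) }
  { M with
    inv_mem' := fun {σ} hσ => by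
      have := Submonoid.pow_mem M hσ (orderOf σ - 1)
      rwa [show σ ^ (orderOf σ - 1) = σ⁻¹ by
        rw [eq_inv_iff_mul_eq_one, ← pow_succ, Nat.sub_add_cancel (orderOf_pos σ), pow_orderOf_eq_one]] at this }

omit [IsScalarTower k K K'] [Algebra k K] in
theorem mem_T {Q : _root_.FunFld.Place k K'} {σ : K' ≃ₐ[K] K'} :
    σ ∈ T K Q ↔ ∀ z, Q.1 z ≤ 1 → Q.1 (σ z - z) ≤ exp (-1) := Iff.rfl

omit [IsScalarTower k K K'] [Algebra k K] in
set_option backward.isDefEq.respectTransparency false in
theorem card_inertia_eq (Q : _root_.FunFld.Place k K') :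
    Nat.card ((Q.O).inertiaSubgroup K) = Nat.card (T K Q) := by
  let D := (Q.O).decompositionSubgroup K
  have hres : ∀ a b : Q.O, IsLocalRing.residue Q.O a = IsLocalRing.residue Q.O b ↔ Q.1 ((a : K') - b) < 1 := fun a b => by
    rw [← sub_eq_zero, ← map_sub, Place.res_eq_zero_iff]; rfl
  have hmem : ∀ τ : D, τ ∈ (Q.O).inertiaSubgroup K ↔ (τ : K' ≃ₐ[K] K') ∈ T K Q := fun τ => by
    constructor
    · intro h z hz
      have h1 := RingEquiv.congr_fun h (IsLocalRing.residue Q.O ⟨z, hz⟩)
      exact le_exp_of_lt_one ((hres _ _).1 h1)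
    · intro h
      refine RingEquiv.ext fun a => ?_
      obtain ⟨a, rfl⟩ := IsLocalRing.residue_surjective a
      exact (hres (τ • a) a).2 ((h a a.2).trans_lt ((exp_lt_exp.2 (by norm_num)).trans_eq exp_zero))
  have hD : ∀ σ ∈ T K Q, σ ∈ D := fun σ hσ => by
    have hsub : ∀ τ ∈ T K Q, ∀ z, Q.1 z ≤ 1 → Q.1 (τ z) ≤ 1 := fun τ hτ z hz => by
      rw [show τ z = (τ z - z) + z by ring]
      exact (Q.1.map_add _ _).trans (max_le ((hτ z hz).trans ((exp_le_exp.2 (by norm_num)).trans exp_zero.le)) hz)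
    show σ • Q.O = Q.O
    refine SetLike.ext fun z => ?_
    rw [ValuationSubring.mem_pointwise_smul_iff_inv_smul_mem]
    refine ⟨fun h => ?_, fun h => hsub _ ((T K Q).inv_mem hσ) z h⟩
    have := hsub σ hσ _ h
    change Q.1 (σ (σ⁻¹ z)) ≤ 1 at this
    rwa [← AlgEquiv.mul_apply, mul_inv_cancel] at this
  refine Nat.card_congr
    { toFun := fun τ => ⟨(τ.1 : K' ≃ₐ[K] K'), (hmem τ.1).1 τ.2⟩
      invFun := fun σ => ⟨⟨σ.1, hD _ σ.2⟩, (hmem _).2 σ.2⟩
      left_inv := fun _ => rfl
      right_inv := fun _ => rfl }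

set_option backward.isDefEq.respectTransparency false in
omit [IsScalarTower k K K'] in
theorem isSeparable_residueField {Q : _root_.FunFld.Place k K'} {F : Type w} [Field F] [Algebra k F]
    [Algebra.IsSeparable k F] {ψ : K' →ₐ[k] LaurentSeries F} (hψ : LocRes.IsExpansionAt Q.1 ψ) :
    Algebra.IsSeparable k (IsLocalRing.ResidueField Q.O) := by
  refine ⟨fun c => ?_⟩
  obtain ⟨z, rfl⟩ := IsLocalRing.residue_surjective c
  obtain ⟨g, hg, hg0, -⟩ := exists_sep hψ z
  have := isScalarTower_O Q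
  have h1 : aeval (IsLocalRing.residue Q.O z) g = 0 := by
    have h2 : IsLocalRing.residue Q.O (aeval z g) = 0 := by
      rw [Place.res_eq_zero_iff, show ((aeval z g : Q.O) : K') = aeval (z : K') g from
        (aeval_algHom_apply (IsScalarTower.toAlgHom k Q.O K') z g).symm]
      exact hg0
    rw [← h2, aeval_def, aeval_def, Polynomial.hom_eval₂]
    rfl
  exact Separable.of_dvd hg (minpoly.dvd k _ h1)

set_option backward.isDefEq.respectTransparency false in
/-- Over the inertia field every value is a multiple of `e`, and the inertia group has order `e`. -/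
theorem unramified [IsGalois K K'] (hK : _root_.FunFld.IsFunctionField k K) {P : _root_.FunFld.Place k K}
    {Q : _root_.FunFld.Place k K'} {e : ℕ} (he : _root_.FunFld.IsOverWith Q P e) {F : Type w} [Field F]
    [Algebra k F] [Algebra.IsSeparable k F] {ψ : K' →ₐ[k] LaurentSeries F} (hψ : LocRes.IsExpansionAt Q.1 ψ) :
    Nat.card (T K Q) = e ∧
      ∀ a ∈ IntermediateField.fixedField (T K Q), Q.1 a < 1 → Q.1 a ≤ exp (-(e : ℤ)) := by
  have := isSeparable_residueField hψ
  have hTe : Nat.card (T K Q) = e := (card_inertia_eq Q).symm.trans (Inertia.card_inertia hK Q P he)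
  refine ⟨hTe, fun a ha ha1 => ?_⟩
  let L := IntermediateField.fixedField (T K Q)
  let C := algebraicClosure k L
  have : IsScalarTower k L K' := IsScalarTower.of_algebraMap_eq fun c => by
    rw [IsScalarTower.algebraMap_apply k K K', IsScalarTower.algebraMap_apply k K L]; rfl
  have : IsScalarTower k C K' := IsScalarTower.of_algebraMap_eq fun c => by
    rw [IsScalarTower.algebraMap_apply k L K']; rfl
  have : IsScalarTower C L K' := IsScalarTower.of_algebraMap_eq fun _ => rfl
  have hLFF : Gen.Bound.IsFF k L := Ext.isFF_of_finite hK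
  have := ConstField.finite hLFF
  have hL := ConstField.isFunctionField hLFF
  let Q' : _root_.FunFld.Place C K' := (ConstPlace.equiv k C K').symm Q
  obtain ⟨R, e', he'0, he'⟩ := Ext.exists_place_below hL Q'
  have hsepC : Algebra.IsSeparable C (IsLocalRing.ResidueField Q'.O) := by
    refine ⟨fun c => ?_⟩
    obtain ⟨z, rfl⟩ := IsLocalRing.residue_surjective c
    obtain ⟨g, hg, hg0, -⟩ := exists_sep hψ (⟨z.1, z.2⟩ : Q.O)
    have := isScalarTower_O Q'
    refine Separable.of_dvd (hg.map (f := algebraMap k C)) (minpoly.dvd C _ ?_)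
    have h2 : IsLocalRing.residue Q'.O (aeval z (g.map (algebraMap k C))) = 0 := by
      rw [Place.res_eq_zero_iff, show ((aeval z (g.map (algebraMap k C)) : Q'.O) : K') = aeval (z : K') (g.map (algebraMap k C)) from
        (aeval_algHom_apply (IsScalarTower.toAlgHom C Q'.O K') z _).symm, aeval_map_algebraMap]
      exact hg0
    rw [← h2, aeval_def, aeval_def, Polynomial.hom_eval₂]
    rfl
  have hcard := Inertia.card_inertia hL Q' R he'
  rw [card_inertia_eq] at hcard
  have hall : ∀ τ : K' ≃ₐ[L] K', τ ∈ T L Q' := fun τ => by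
    have hfix : τ.restrictScalars K ∈ IntermediateField.fixingSubgroup L := fun z => τ.commutes z
    rw [IntermediateField.fixingSubgroup_fixedField] at hfix
    exact hfix
  have he'e : e' = e := by
    rw [← hcard, (Nat.card_congr (Equiv.subtypeUnivEquiv hall) : Nat.card (T L Q') = _),
      IsGalois.card_aut_eq_finrank, IntermediateField.finrank_fixedField_eq_card, hTe]
  have h1 : Q.1 a = R.1 (⟨a, ha⟩ : L) ^ e' := he' ⟨a, ha⟩
  rw [h1] at ha1 ⊢
  have hR : R.1 (⟨a, ha⟩ : L) < 1 := (pow_lt_one_iff_of_nonneg zero_le he'0.ne').1 ha1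
  refine (pow_le_pow_left₀ zero_le (le_exp_of_lt_one (k := C) (K' := L) (Q := R) hR) _).trans_eq ?_
  rw [← exp_nsmul, he'e]
  simp

set_option maxHeartbeats 1000000 in
/-- The order of the different is the sum of the displacements of a parameter. -/
theorem exponent [IsGalois K K'] (hK : _root_.FunFld.IsFunctionField k K) (hg : _root_.FunFld.IsGeometric k K)
    {P : _root_.FunFld.Place k K} {Q : _root_.FunFld.Place k K'} {e : ℕ} (he : _root_.FunFld.IsOverWith Q P e)
    {F F' : Type w} [Field F] [Algebra k F] [Field F'] [Algebra k F'] [Algebra.IsSeparable k F']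
    {φ : K →ₐ[k] LaurentSeries F} (hφ : LocRes.IsExpansionAt P.1 φ)
    {ψ : K' →ₐ[k] LaurentSeries F'} (hψ : LocRes.IsExpansionAt Q.1 ψ)
    {x : K} (hx : LocRes.vDiff φ 1 x ≠ 0) (hx' : LocRes.vDiff ψ 1 (algebraMap K K' x) ≠ 0)
    {s : K'} (hs : Q.1 s = exp (-1)) [Fintype (T K Q)] :
    (∀ σ ∈ T K Q, σ ≠ 1 → σ s ≠ s) ∧
      LocRes.diffExp φ ψ e x = ∑ σ : T K Q, Q.ord ((σ : K' ≃ₐ[K] K') s - s) := by
  classical
  have hsep := Hasse.Separable.exists_isSep_of_geometric hK hg
  have he0 : (1 : ℤ) ≤ e := by exact_mod_cast Ext.pos_of_isOverWith he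
  obtain ⟨hTe, hmult⟩ := unramified hK he hψ
  have hs0 : s ≠ 0 := fun h => exp_ne_zero (a := (-1 : ℤ)) (by rw [← hs, h, map_zero])
  have hlt1 : exp (-1 : ℤ) < (1 : WithZero (Multiplicative ℤ)) := (exp_lt_exp.2 (by norm_num)).trans_eq exp_zero
  have hmove : ∀ σ ∈ T K Q, σ ≠ 1 → σ s ≠ s := by
    intro σ hσ hne heq
    refine hne (AlgEquiv.ext fun z => ?_)
    have hO : ∀ w, Q.1 w ≤ 1 → σ w = w := fun w hw => by
      by_contra hw'
      have h0 : σ w - w ≠ 0 := sub_ne_zero.2 hw'
      have h1 := move_le hψ (σ := (σ : K' →ₐ[K] K').restrictScalars k) (hσ) hs (Q.ord (σ w - w)).natAbs.succ w hw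
      change Q.1 (σ w - w) ≤ max (Q.1 (σ s - s)) _ at h1
      rw [heq, sub_self, map_zero, max_eq_right zero_le, Place.val_eq_exp Q h0, exp_le_exp] at h1
      simp only [Nat.succ_eq_add_one, Nat.cast_add, Nat.cast_one] at h1
      omega
    show σ z = z
    rcases le_total (Q.1 z) 1 with hz | hz
    · exact hO z hz
    · have h1 := hO z⁻¹ (by rw [map_inv₀]; exact inv_le_one_of_one_le₀ hz)
      rw [map_inv₀] at h1
      exact inv_injective h1
  refine ⟨hmove, ?_⟩
  obtain ⟨t, ht⟩ := Place.exists_val_eq_exp P (-1)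
  have hT := Basic.diffExp_eq hK hsep he hφ hψ hx hx' ht
  set d := LocRes.diffExp φ ψ e x
  let L := IntermediateField.fixedField (T K Q)
  let t' := algebraMap K K' t
  have ht' : Q.1 t' = exp (-(e : ℤ)) := by rw [he, ht, ← exp_nsmul]; simp
  have ht'0 : t' ≠ 0 := fun h => exp_ne_zero (a := -(e : ℤ)) (by rw [← ht', h, map_zero])
  have ht'L : t' ∈ L := L.algebraMap_mem t
  have hψt : Valued.v (LocRes.D F' (ψ t')) = exp (-d) := hT
  -- differentials of the inertia field are multiples of `dt`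
  have hDL : ∀ (N : ℕ) (a : K'), a ∈ L → Q.1 a ≤ 1 →
      Valued.v (LocRes.D F' (ψ a)) ≤ max (exp (-d)) (exp (-(N : ℤ))) := by
    intro N
    induction N with
    | zero =>
      intro a _ ha
      exact le_max_of_le_right ((Basic.vD_le_one ((hψ.1 a).trans_le ha)).trans_eq (by simp))
    | succ N ih =>
      intro a haL ha
      obtain ⟨g, -, hg0, hg1⟩ := exists_sep hψ ⟨a, ha⟩
      have hgL : aeval a g ∈ L := by
        clear hg0 hg1
        induction g using Polynomial.induction_on' with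
        | add p q hp hq => rw [map_add]; exact L.add_mem hp hq
        | monomial i c =>
          rw [aeval_monomial, IsScalarTower.algebraMap_apply k K K']
          exact L.mul_mem (L.algebraMap_mem _) (pow_mem haL i)
      obtain ⟨b, hbL, hb, hgb⟩ : ∃ b, b ∈ L ∧ Q.1 b ≤ 1 ∧ aeval a g = t' * b := by
        refine ⟨aeval a g / t', L.div_mem hgL ht'L, ?_, (mul_div_cancel₀ _ ht'0).symm⟩
        rw [map_div₀, ht', div_le_one₀ exp_pos]
        exact hmult _ hgL hg0
      have h1 := congrArg (fun z => Valued.v (LocRes.D F' (ψ z))) hgb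
      rw [Regular.D_aeval, map_mul, hψ.1, hg1, one_mul, map_mul ψ, Derivation.leibniz, smul_eq_mul,
        smul_eq_mul] at h1
      rw [h1]
      refine (Valuation.map_add _ _ _).trans (max_le ?_ ?_)
      · rw [map_mul, hψ.1, ht']
        refine (mul_le_mul' le_rfl (ih b hbL hb)).trans ?_
        rw [mul_max]
        refine max_le_max (mul_le_of_le_one_left' ((exp_le_exp.2 (by omega)).trans exp_zero.le)) ?_
        rw [← exp_add]
        exact exp_le_exp.2 (by push_cast; omega)
      · rw [map_mul, hψ.1, hψt]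
        exact le_max_of_le_left (mul_le_of_le_one_left' hb)
  have hDL' : ∀ a ∈ L, Q.1 a ≤ 1 → Valued.v (LocRes.D F' (ψ a)) ≤ exp (-d) := fun a haL ha =>
    (hDL d.natAbs a haL ha).trans (max_le le_rfl (exp_le_exp.2 (by omega)))
  -- the polynomial
  let G := T K Q
  let f : K'[X] := ∏ σ : G, (X - C ((σ : K' ≃ₐ[K] K') s))
  have hσO : ∀ σ : G, Q.1 ((σ : K' ≃ₐ[K] K') s) = exp (-1) := by
    have h : ∀ σ : G, Q.1 ((σ : K' ≃ₐ[K] K') s) ≤ exp (-1) := fun σ => by
      rw [show (σ : K' ≃ₐ[K] K') s = ((σ : K' ≃ₐ[K] K') s - s) + s by ring]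
      exact (Q.1.map_add _ _).trans (max_le (σ.2 s (hs.le.trans hlt1.le)) hs.le)
    intro σ
    refine le_antisymm (h σ) ?_
    by_contra hlt
    rw [not_le] at hlt
    rcases eq_or_ne ((σ : K' ≃ₐ[K] K') s) 0 with h0 | h0
    · exact hs0 ((map_eq_zero _).1 h0)
    have hz : Q.1 ((σ : K' ≃ₐ[K] K') s / s) ≤ exp (-1) := by
      refine le_exp_of_lt_one ?_
      rw [map_div₀, hs, div_lt_one₀ exp_pos]
      exact hlt
    -- apply the inverse
    have h1 := (σ⁻¹).2 _ (hz.trans hlt1.le)
    rw [map_div₀, Subgroup.coe_inv, ← AlgEquiv.mul_apply, inv_mul_cancel, AlgEquiv.one_apply] at h1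
    have h2 : Q.1 (s / ((σ : K' ≃ₐ[K] K')⁻¹ s)) ≤ exp (-1) := by
      have := (Q.1.map_add (s / ((σ : K' ≃ₐ[K] K')⁻¹ s) - (σ : K' ≃ₐ[K] K') s / s) ((σ : K' ≃ₐ[K] K') s / s)).trans (max_le h1 hz)
      rwa [sub_add_cancel] at this
    rw [map_div₀, hs, div_le_iff₀ (zero_lt_iff.2 (by simpa using hs0))] at h2
    have h3 : Q.1 ((σ : K' ≃ₐ[K] K')⁻¹ s) ≤ exp (-1) := h σ⁻¹
    have := h2.trans (mul_le_mul' le_rfl h3)
    rw [← exp_add, exp_le_exp] at this
    omega
  have hfix : ∀ i, f.coeff i ∈ L := fun i => by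
    rw [IntermediateField.mem_fixedField_iff]
    intro τ hτ
    have hmap : f.map ((τ : K' ≃ₐ[K] K') : K' →+* K') = f := by
      simp only [f, Polynomial.map_prod, Polynomial.map_sub, map_X, map_C]
      refine Fintype.prod_equiv (Equiv.mulLeft (⟨τ, hτ⟩ : G)) _ _ fun ρ => ?_
      rw [Equiv.coe_mulLeft, Subgroup.coe_mul, AlgEquiv.mul_apply]
      congr 2
    conv_rhs => rw [← hmap, coeff_map]
    rfl
  have hcoef : ∀ i, Q.1 (f.coeff i) ≤ 1 := fun i => by
    let f₀ : Q.O[X] := ∏ σ : G, (X - C ⟨(σ : K' ≃ₐ[K] K') s, (hσO σ).le.trans hlt1.le⟩)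
    have : f₀.map Q.O.subtype = f := by simp [f₀, f, Polynomial.map_prod]
    rw [← this, coeff_map]
    exact (f₀.coeff i).2
  have hf0 : Q.1 (f.coeff 0) = exp (-(e : ℤ)) := by
    have : f.coeff 0 = ∏ σ : G, -((σ : K' ≃ₐ[K] K') s) := by
      rw [coeff_zero_eq_eval_zero, eval_prod]
      simp
    rw [this, map_prod, Finset.prod_congr rfl fun σ _ => by rw [Valuation.map_neg, hσO σ], Finset.prod_const,
      Finset.card_univ, ← Nat.card_eq_fintype_card, hTe, ← exp_nsmul]
    simp
  have hD0 : Valued.v (LocRes.D F' (ψ (f.coeff 0))) = exp (-d) := by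
    have hu1 : Q.1 (f.coeff 0 / t') = 1 := by rw [map_div₀, hf0, ht', div_self exp_ne_zero]
    rw [← mul_div_cancel₀ (f.coeff 0) ht'0, map_mul ψ, Derivation.leibniz, smul_eq_mul, smul_eq_mul]
    have hv2 : Valued.v (ψ (f.coeff 0 / t') * LocRes.D F' (ψ t')) = exp (-d) := by
      rw [map_mul, hψ.1, hu1, hψt, one_mul]
    rw [Valuation.map_add_eq_of_lt_right _ ?_, hv2]
    rw [hv2, map_mul, hψ.1, ht']
    refine (mul_le_mul' le_rfl (hDL' _ (L.div_mem (hfix 0) ht'L) hu1.le)).trans_lt ?_
    rw [← exp_add, exp_lt_exp]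
    omega
  have hfs : f.eval s = 0 := by
    rw [eval_prod]
    exact Finset.prod_eq_zero (Finset.mem_univ 1) (by simp)
  let n := f.natDegree + 1
  have h0 : ∑ i ∈ Finset.range n, ψ (f.coeff i) * ψ s ^ i = 0 := by
    have h := congrArg ψ hfs
    rw [map_zero, eval_eq_sum_range' (show f.natDegree < n from Nat.lt_succ_self _), map_sum] at h
    refine (Finset.sum_congr rfl fun i _ => ?_).trans h
    rw [map_mul, map_pow]
  have hd' : ψ ((derivative f).eval s) * LocRes.D F' (ψ s) +
      ∑ i ∈ Finset.range n, LocRes.D F' (ψ (f.coeff i)) * ψ s ^ i = 0 := by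
    have hD := congrArg (LocRes.D F') h0
    rw [map_zero, map_sum] at hD
    have hder : (derivative f).eval s = ∑ i ∈ Finset.range n, f.coeff i * ((i : K') * s ^ (i - 1)) := by
      conv_lhs => rw [f.as_sum_range_C_mul_X_pow' (n := n) (Nat.lt_succ_self _)]
      rw [derivative_sum, eval_finsetSum]
      refine Finset.sum_congr rfl fun i _ => ?_
      rw [derivative_C_mul_X_pow, eval_mul, eval_C, eval_pow, eval_X]
      ring
    rw [← hD, hder, map_sum, Finset.sum_mul, ← Finset.sum_add_distrib]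
    refine Finset.sum_congr rfl fun i _ => ?_
    rw [Derivation.leibniz, Derivation.leibniz_pow]
    simp only [smul_eq_mul, nsmul_eq_mul, map_mul, map_natCast, map_pow]
    ring
  have hsum : Valued.v (∑ i ∈ Finset.range n, LocRes.D F' (ψ (f.coeff i)) * ψ s ^ i) = exp (-d) := by
    rw [Finset.sum_range_succ']
    have h1 : Valued.v (LocRes.D F' (ψ (f.coeff 0)) * ψ s ^ 0) = exp (-d) := by rw [pow_zero, mul_one, hD0]
    rw [Valuation.map_add_eq_of_lt_right _ ?_, h1]
    rw [h1]
    refine Valuation.map_sum_lt _ exp_ne_zero fun i _ => ?_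
    rw [map_mul, map_pow, hψ.1, hs]
    refine (mul_le_mul' (hDL' _ (hfix _) (hcoef _)) le_rfl).trans_lt ?_
    rw [← exp_nsmul, ← exp_add, exp_lt_exp]
    simp
    omega
  have hS : Valued.v (LocRes.D F' (ψ s)) = 1 := by
    rw [Basic.vD_eq (m := 1) ((hψ.1 s).trans hs) (by simp)]
    simp
  have hfinal := congrArg Valued.v (eq_neg_of_add_eq_zero_left hd')
  rw [Valuation.map_neg, map_mul, hS, hsum, mul_one, hψ.1] at hfinal
  have hprod : (derivative f).eval s = ∏ σ ∈ (Finset.univ : Finset G).erase 1, (s - (σ : K' ≃ₐ[K] K') s) := by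
    simp only [f]
    rw [derivative_prod_finset, eval_finsetSum, Finset.sum_eq_single_of_mem (1 : G) (Finset.mem_univ _)]
    · simp [eval_prod]
    · intro σ _ hne
      rw [eval_mul, eval_prod, Finset.prod_eq_zero (Finset.mem_erase.2 ⟨Ne.symm hne, Finset.mem_univ 1⟩) (by simp)]
      exact zero_mul _
  rw [hprod, map_prod] at hfinal
  have hne : ∀ σ ∈ (Finset.univ : Finset G).erase 1, (σ : K' ≃ₐ[K] K') s - s ≠ 0 := fun σ hσ =>
    sub_ne_zero.2 (hmove σ.1 σ.2 fun h => (Finset.mem_erase.1 hσ).1 (Subtype.ext h))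
  rw [Finset.prod_congr rfl fun σ hσ => by
    rw [Valuation.map_sub_swap, Place.val_eq_exp Q (hne σ hσ)]] at hfinal
  have hexp : ∀ (S : Finset G) (a : G → ℤ), ∏ σ ∈ S, exp (a σ) = exp (∑ σ ∈ S, a σ) := fun S a => by
    induction S using Finset.induction_on with
    | empty => simp
    | insert i S hi ih => rw [Finset.prod_insert hi, Finset.sum_insert hi, ih, exp_add]
  rw [hexp, exp_inj, Finset.sum_neg_distrib, neg_inj] at hfinal
  have hlog := hfinal
  rw [← hlog, Finset.sum_erase]
  simp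

end Groth.Agent.H81.Diff.Hilbert
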