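import Groth.Agent.H81.Diff.Regular
import Mathlib.RingTheory.Polynomial.Wronskian
import Mathlib.Algebra.CharP.Two
/-!
# Differentials of rational functions seen from a cover
-/

set_option autoImplicit false

namespace Groth.Agent.H81.Diff.Line

open WithZero Polynomial Groth.Agent.Lib.FunFld

universe u v w
variable {k : Type u} [Field k] {K : Type v} [Field K] [Algebra k K] [Algebra (RatFunc k) K]
  [IsScalarTower k (RatFunc k) K] {F : Type w} [Field F] [Algebra k F] [FiniteDimensional k F]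
  {Q : _root_.FunFld.Place k K} {φ : K →ₐ[k] LaurentSeries F} {P : _root_.FunFld.Place k (RatFunc k)} {e : ℕ}

local notation "ι" => algebraMap k[X] (RatFunc k)
local notation "ψ" => fun a : RatFunc k => φ (algebraMap (RatFunc k) K a)
local notation "x₀" => algebraMap (RatFunc k) K RatFunc.X

omit [FiniteDimensional k F] [IsScalarTower k (RatFunc k) K] in
theorem val_map (hφ : LocRes.IsExpansionAt Q.1 φ) (he : _root_.FunFld.IsOverWith Q P e) (a : RatFunc k) :
    Valued.v (ψ a) = P.1 a ^ e := (hφ.1 _).trans (he a)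

omit [FiniteDimensional k F] in
theorem D_div {a b : k[X]} (hb : b ≠ 0) :
    LocRes.D F (ψ (ι a / ι b)) = ψ (-ι (wronskian a b) / ι b ^ 2) * LocRes.D F (φ x₀) := by
  have hb' : φ (aeval x₀ b) ≠ 0 := by
    rw [_root_.map_ne_zero, Regular.aeval_X, _root_.map_ne_zero]
    exact RatPlace.ι_ne_zero hb
  have h : ψ (ι a / ι b) = φ (aeval x₀ a) / φ (aeval x₀ b) := by
    show φ _ = _
    rw [map_div₀, map_div₀, Regular.aeval_X, Regular.aeval_X]
  rw [h, Derivation.leibniz_div, Regular.D_aeval, Regular.D_aeval]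
  show _ = φ (algebraMap (RatFunc k) K _) * _
  rw [wronskian, map_div₀, map_div₀, map_neg, map_neg, map_pow, map_pow, map_sub, map_sub, map_sub,
    map_mul, map_mul, map_mul, map_mul, map_mul, map_mul, ← Regular.aeval_X, ← Regular.aeval_X,
    ← Regular.aeval_X, ← Regular.aeval_X]
  simp only [smul_eq_mul]
  field_simp
  ring

omit [FiniteDimensional k F] in
/-- At a finite place, differentials of regular functions are multiples of `dx`. -/
theorem D_le_fin (hφ : LocRes.IsExpansionAt Q.1 φ) (he : _root_.FunFld.IsOverWith Q P e)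
    (hX : 0 ≤ P.ord (RatFunc.X : RatFunc k)) {z : RatFunc k} (hz : P.1 z ≤ 1) :
    Valued.v (LocRes.D F (ψ z)) ≤ Valued.v (LocRes.D F (φ x₀)) := by
  have hden : P.ord (ι z.denom) = 0 := by
    refine le_antisymm (not_lt.1 fun hlt => ?_) (RatPlace.ord_nonneg_of_X P hX _)
    obtain ⟨p, hp, hdvd, hpl⟩ := RatPlace.exists_irreducible_dvd P z.denom_ne_zero hlt
    have hn := RatPlace.ord_eq_zero_of_isCoprime P hp hpl
      ((z.isCoprime_num_denom.symm).of_isCoprime_of_dvd_left hdvd)
    have hnum : z.num ≠ 0 := fun h => by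
      have h1 : z = 0 := RatFunc.num_eq_zero_iff.1 h
      rw [h1, RatFunc.denom_zero] at hdvd
      exact hp.not_isUnit (isUnit_of_dvd_one hdvd)
    rw [Place.val_le_one_iff, ← z.num_div_denom, Place.ord_div P (RatPlace.ι_ne_zero hnum)
      (RatPlace.ι_ne_zero z.denom_ne_zero), hn] at hz
    omega
  rw [← z.num_div_denom, D_div z.denom_ne_zero, map_mul, val_map hφ he]
  refine mul_le_of_le_one_left' (pow_le_one₀ zero_le ?_)
  rw [map_div₀, map_pow, Valuation.map_neg, Place.val_eq_exp P (RatPlace.ι_ne_zero z.denom_ne_zero), hden,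
    neg_zero, exp_zero, one_pow, div_one]
  exact (Place.val_le_one_iff P).2 (RatPlace.ord_nonneg_of_X P hX _)

omit [FiniteDimensional k F] in
/-- At the infinite place, differentials of regular functions are multiples of `dx / x²`. -/
theorem D_le_inf (hφ : LocRes.IsExpansionAt Q.1 φ) (he : _root_.FunFld.IsOverWith Q P e)
    (hX : P.ord (RatFunc.X : RatFunc k) < 0) {z : RatFunc k} (hz : P.1 z ≤ 1) :
    Valued.v (LocRes.D F (ψ z)) ≤ exp (-(2 * (e : ℤ))) * Valued.v (LocRes.D F (φ x₀)) := by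
  rcases eq_or_ne z 0 with rfl | hz0
  · simp
  have hb := z.denom_ne_zero
  rw [← z.num_div_denom, D_div hb, map_mul, val_map hφ he]
  refine mul_le_mul' ?_ le_rfl
  rcases eq_or_ne (wronskian z.num z.denom) 0 with hw | hw
  · rw [hw, map_zero, neg_zero, zero_div, map_zero, zero_pow (Ext.pos_of_isOverWith he).ne']
    exact zero_le
  have hdeg : z.num.natDegree ≤ z.denom.natDegree := by
    rw [Place.val_le_one_iff, ← z.num_div_denom,
      Place.ord_div P (RatPlace.ι_ne_zero (RatFunc.num_ne_zero hz0)) (RatPlace.ι_ne_zero hb),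
      RatPlace.ord_poly_inf P hX (RatFunc.num_ne_zero hz0), RatPlace.ord_poly_inf P hX hb] at hz
    omega
  have hsharp : (wronskian z.num z.denom).natDegree + 2 ≤ 2 * z.denom.natDegree := by
    set a := z.num
    set b := z.denom
    rcases hdeg.lt_or_eq with hlt | heq
    · have := natDegree_wronskian_lt_add hw
      omega
    let a₁ := a - C (a.leadingCoeff / b.leadingCoeff) * b
    have hw' : wronskian a₁ b = wronskian a b := by
      simp only [wronskian, a₁, derivative_sub, derivative_C_mul]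
      ring
    rw [← hw'] at hw ⊢
    have h1 := natDegree_wronskian_lt_add hw
    have h2 : a₁.natDegree < b.natDegree := by
      have ha1 : a₁ ≠ 0 := fun h => hw (by rw [h, wronskian_zero_left])
      refine (natDegree_lt_natDegree_iff ha1).2 ?_
      rw [degree_eq_natDegree hb, ← heq, ← degree_eq_natDegree (RatFunc.num_ne_zero hz0)]
      refine degree_sub_lt_left ?_ (RatFunc.num_ne_zero hz0) ?_
      · rw [degree_C_mul (div_ne_zero (leadingCoeff_ne_zero.2 (RatFunc.num_ne_zero hz0))
          (leadingCoeff_ne_zero.2 hb)), degree_eq_natDegree hb, degree_eq_natDegree (RatFunc.num_ne_zero hz0), heq]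
      · rw [leadingCoeff_mul, leadingCoeff_C, div_mul_cancel₀ _ (leadingCoeff_ne_zero.2 hb)]
    omega
  rw [map_div₀, map_pow, Valuation.map_neg, Place.val_eq_exp P (RatPlace.ι_ne_zero hw),
    Place.val_eq_exp P (RatPlace.ι_ne_zero hb), RatPlace.ord_poly_inf P hX hw, RatPlace.ord_poly_inf P hX hb,
    ← exp_nsmul, ← exp_sub, ← exp_nsmul, exp_le_exp]
  simp only [nsmul_eq_mul, neg_neg]
  push_cast
  have : ((wronskian z.num z.denom).natDegree : ℤ) + 2 ≤ 2 * z.denom.natDegree := by exact_mod_cast hsharp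
  nlinarith [Int.natCast_nonneg e]

omit [FiniteDimensional k F] [IsScalarTower k (RatFunc k) K] in
/-- The different at a ramified place of an Artin–Schreier double cover. -/
theorem D_uniformizer [CharP K 2] (hφ : LocRes.IsExpansionAt Q.1 φ) (he : _root_.FunFld.IsOverWith Q P 2)
    {π : RatFunc k} (hπ : P.1 π = exp (-1))
    (hreg : ∀ u : RatFunc k, P.1 u ≤ 1 → Valued.v (LocRes.D F (ψ u)) ≤ Valued.v (LocRes.D F (ψ π)))
    {f : RatFunc k} {y : K} (heq : y ^ 2 + y = algebraMap (RatFunc k) K f) {m : ℤ} (hm : P.1 f = exp (-m))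
    (hy : Q.1 y = exp (-m)) (hodd : Odd m) :
    Valued.v (LocRes.D F (ψ π)) = exp (m - 1) := by
  have : CharP (LaurentSeries F) 2 := charP_of_injective_ringHom φ.toRingHom.injective 2
  have : CharP F 2 := by
    have : CharP k 2 := (RingHom.charP_iff (algebraMap k K) (algebraMap k K).injective 2).2 inferInstance
    exact charP_of_injective_algebraMap (algebraMap k F).injective 2
  have hm2 : (m : F) = 1 := by
    obtain ⟨c, rfl⟩ := hodd
    push_cast
    rw [CharTwo.two_eq_zero, zero_mul, zero_add]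
  have hπ0 : π ≠ 0 := fun h => exp_ne_zero (a := (-1 : ℤ)) (by rw [← hπ, h, map_zero])
  have hψπ : ψ π ≠ 0 := (_root_.map_ne_zero φ).2 ((_root_.map_ne_zero _).2 hπ0)
  have hy' : Valued.v (LocRes.D F (φ y)) = exp (-(m - 1)) :=
    Basic.vD_eq ((hφ.1 y).trans hy) (by rw [hm2]; exact one_ne_zero)
  have hDy : LocRes.D F (φ y) = LocRes.D F (ψ f) := by
    show _ = LocRes.D F (φ (algebraMap (RatFunc k) K f))
    rw [← heq, map_add φ, map_pow φ, map_add, Derivation.leibniz_pow]
    simp [CharTwo.two_eq_zero]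
  rw [hDy] at hy'
  let u := f / π ^ m
  have hu : P.1 u = 1 := by
    rw [map_div₀, map_zpow₀, hm, hπ, ← exp_zsmul, ← exp_sub]
    simp
  have hdecomp : LocRes.D F (ψ f) = (ψ π) ^ m * LocRes.D F (ψ u) + m • (ψ π) ^ (m - 1) * ψ u * LocRes.D F (ψ π) := by
    have hf : ψ f = (ψ π) ^ m * ψ u := by
      show φ _ = φ _ ^ m * φ _
      rw [← map_zpow₀, ← map_mul, ← map_zpow₀, ← map_mul, mul_div_cancel₀ _ (zpow_ne_zero _ hπ0)]
    rw [hf, Derivation.leibniz, Derivation.leibniz_zpow]
    simp only [smul_eq_mul, zsmul_eq_mul]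
    ring
  set T := Valued.v (LocRes.D F (ψ π)) with hT
  have hvπ : Valued.v (ψ π) = exp (-2) := by
    rw [val_map hφ he, hπ, ← exp_nsmul]; rfl
  have hvm : Valued.v ((m : LaurentSeries F)) = 1 := by
    obtain ⟨c, rfl⟩ := hodd
    push_cast
    rw [CharTwo.two_eq_zero, zero_mul, zero_add, map_one]
  rcases eq_or_ne T 0 with hT0 | hT0
  · exfalso
    have h1 : LocRes.D F (ψ u) = 0 := (Valuation.zero_iff _).1 (le_zero_iff.1 ((hreg u hu.le).trans hT0.le))
    have h2 : LocRes.D F (ψ π) = 0 := (Valuation.zero_iff _).1 hT0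
    rw [hdecomp, h1, h2, mul_zero, mul_zero, add_zero, map_zero] at hy'
    exact exp_ne_zero hy'.symm
  have hbig : Valued.v (m • (ψ π) ^ (m - 1) * ψ u * LocRes.D F (ψ π)) = exp (-(2 * (m - 1))) * T := by
    rw [zsmul_eq_mul, map_mul, map_mul, map_mul, hvm, one_mul, map_zpow₀, hvπ, val_map hφ he, hu, one_pow,
      mul_one, ← exp_zsmul]
    congr 2
    simp; ring
  rw [hdecomp, Valuation.map_add_eq_of_lt_right, hbig] at hy'
  · rw [← exp_log hT0] at hy' ⊢
    rw [← exp_add, exp_inj] at hy'
    rw [exp_inj]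
    omega
  · rw [hbig, map_mul, map_zpow₀, hvπ, ← exp_zsmul]
    refine (mul_le_mul' le_rfl (hreg u hu.le)).trans_lt ?_
    rw [← exp_log hT0, ← exp_add, ← exp_add, exp_lt_exp]
    simp only [zsmul_eq_mul]
    push_cast
    omega

end Groth.Agent.H81.Diff.Line
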