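import Groth.Agent.H81.Diff.Basic
import Groth.Agent.H81.IntClosure
import Groth.Agent.S11033
import Mathlib.FieldTheory.Minpoly.IsIntegrallyClosed
import Mathlib.RingTheory.Norm.Basic
/-!
# The different exponent as the order of the derivative of the minimal polynomial of a parameter
-/

set_option autoImplicit false

namespace Groth.Agent.H81.Diff.Minpoly

open WithZero Polynomial Groth.Agent.Lib.FunFld

universe u v w
variable {k : Type u} {K K' : Type v} [Field k] [Field K] [Field K'] [Algebra k K] [Algebra K K']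
  [Algebra k K'] [IsScalarTower k K K'] [FiniteDimensional K K']
  {F F' : Type w} [Field F] [Algebra k F] [Field F'] [Algebra k F']

theorem main (hK : _root_.FunFld.IsFunctionField k K) (hg : _root_.FunFld.IsGeometric k K)
    {P : _root_.FunFld.Place k K} {Q : _root_.FunFld.Place k K'} {e : ℕ}
    (he : _root_.FunFld.IsOverWith Q P e)
    {φ : K →ₐ[k] LaurentSeries F} (hφ : LocRes.IsExpansionAt P.1 φ)
    {ψ : K' →ₐ[k] LaurentSeries F'} (hψ : LocRes.IsExpansionAt Q.1 ψ)
    {x : K} (hx : LocRes.vDiff φ 1 x ≠ 0) (hx' : LocRes.vDiff ψ 1 (algebraMap K K' x) ≠ 0)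
    (hdeg : Q.deg = P.deg) {s : K'} (hs : Q.1 s = exp (-1))
    (hs' : ∀ Q' : _root_.FunFld.Place k K', _root_.FunFld.IsOver Q' P → Q' ≠ Q → Q'.1 s = 1) :
    IntermediateField.adjoin K ({s} : Set K') = ⊤ ∧
      Q.ord (aeval s (derivative (minpoly K s))) = LocRes.diffExp φ ψ e x := by
  classical
  have hsep := Hasse.Separable.exists_isSep_of_geometric hK hg
  have hs0 : s ≠ 0 := fun h => exp_ne_zero (a := (-1 : ℤ)) (by rw [← hs, h, map_zero])
  obtain ⟨hfin, -⟩ := Ext.sum_ramIdx_mul_deg (K' := K') hK P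
  have hnorm : P.ord (Algebra.norm K s) = 1 := by
    have h := S11033.result k K K' hK hg P s hfin.toFinset (fun R => hfin.mem_toFinset)
    rw [Finset.sum_eq_single_of_mem Q (hfin.mem_toFinset.2 ⟨e, he⟩) fun R hR hne => by
      rw [Place.ord_def, hs' R (hfin.mem_toFinset.1 hR) hne, log_one, neg_zero, mul_zero],
      Place.ord_eq_of_val_eq_exp Q hs, hdeg] at h
    have hP : (0 : ℤ) < P.deg := by exact_mod_cast Existence.deg_pos hK P
    exact mul_left_cancel₀ hP.ne' (by rw [h]; norm_num)
  have hint : IsIntegral K s := Algebra.IsIntegral.isIntegral s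
  let E := IntermediateField.adjoin K ({s} : Set K')
  let pb := IntermediateField.adjoin.powerBasis hint
  have hcoef : P.ord (Algebra.norm K s) = (Module.finrank E K' : ℤ) * P.ord ((minpoly K s).coeff 0) := by
    rw [Algebra.norm_eq_norm_adjoin K s]
    have h2 := Algebra.PowerBasis.norm_gen_eq_coeff_zero_minpoly pb
    rw [IntermediateField.adjoin.powerBasis_gen, IntermediateField.minpoly_gen] at h2
    rw [h2, Place.ord_pow]
    congr 1
    rcases neg_one_pow_eq_or K (pb.dim) with h3 | h3
    · rw [h3, one_mul]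
    · rw [h3, neg_one_mul, Place.ord_neg]
  rw [hnorm] at hcoef
  have hpos : 0 < Module.finrank E K' := Module.finrank_pos
  obtain ⟨hm, hord0⟩ : Module.finrank E K' = 1 ∧ P.ord ((minpoly K s).coeff 0) = 1 := by
    rcases Int.eq_one_or_neg_one_of_mul_eq_one' hcoef.symm with ⟨h1, h2⟩ | ⟨h1, h2⟩
    · exact ⟨by exact_mod_cast h1, h2⟩
    · omega
  refine ⟨IntermediateField.finrank_eq_one_iff_eq_top.1 hm, ?_⟩
  -- the coefficients are integral
  have hintO : IsIntegral P.O s := (IntClosure.isIntegral_iff hK).2 fun R hR => by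
    by_cases h : R = Q
    · rw [h, hs]; exact (exp_le_exp.2 (by norm_num)).trans exp_zero.le
    · exact (hs' R hR h).le
  let f := minpoly K s
  have hcoefO : ∀ i, P.1 (f.coeff i) ≤ 1 := fun i => by
    show P.1 ((minpoly K s).coeff i) ≤ 1
    rw [minpoly.isIntegrallyClosed_eq_field_fractions' K hintO, coeff_map]
    exact ((minpoly P.O s).coeff i).2
  obtain ⟨t, ht⟩ := Place.exists_val_eq_exp P (-1)
  obtain ⟨ht1, hts⟩ := Basic.isSep_uniformizer hK hsep hφ ht
  choose r hr using fun i => Basic.exists_ratio hts (f.coeff i)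
  have hr1 : ∀ i, P.1 (r i) ≤ 1 := fun i => by
    have h1 := Basic.vD_le_one (g := φ (f.coeff i)) ((hφ.1 _).trans_le (hcoefO i))
    rwa [Basic.D_of_kaehler φ (hr i), map_mul, ht1, hφ.1, mul_one] at h1
  have hr0 : P.1 (r 0) = 1 := by
    have hne : f.coeff 0 ≠ 0 := fun h => by
      change P.ord (f.coeff 0) = 1 at hord0
      rw [h, Place.ord_zero] at hord0; omega
    have h1 := Basic.vD_eq (g := φ (f.coeff 0)) (m := 1) ((hφ.1 _).trans (by
      rw [Place.val_eq_exp P hne]; show exp (-P.ord ((minpoly K s).coeff 0)) = _; rw [hord0])) (by simp)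
    rw [Basic.D_of_kaehler φ (hr 0), map_mul, ht1, hφ.1, mul_one] at h1
    simpa using h1
  let χ := ψ.comp (IsScalarTower.toAlgHom k K K')
  let T := LocRes.D F' (ψ (algebraMap K K' t))
  have hχ : ∀ i, LocRes.D F' (ψ (algebraMap K K' (f.coeff i))) = ψ (algebraMap K K' (r i)) * T := fun i =>
    Basic.D_of_kaehler χ (hr i)
  let S := ψ s
  let n := f.natDegree + 1
  have h0 : ∑ i ∈ Finset.range n, ψ (algebraMap K K' (f.coeff i)) * S ^ i = 0 := by
    have := congrArg ψ (minpoly.aeval K s)
    rw [map_zero, aeval_eq_sum_range' (show (minpoly K s).natDegree < n from Nat.lt_succ_self _), map_sum] at this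
    refine (Finset.sum_congr rfl fun i _ => ?_).trans this
    rw [Algebra.smul_def, map_mul, map_pow]
  have hD := congrArg (LocRes.D F') h0
  rw [map_zero, map_sum] at hD
  have hd : ψ (aeval s (derivative f)) * LocRes.D F' S +
      T * ∑ i ∈ Finset.range n, ψ (algebraMap K K' (r i)) * S ^ i = 0 := by
    have hder : aeval s (derivative f) =
        ∑ i ∈ Finset.range n, algebraMap K K' (f.coeff i) * ((i : K') * s ^ (i - 1)) := by
      conv_lhs => rw [f.as_sum_range_C_mul_X_pow' (n := n) (Nat.lt_succ_self _)]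
      rw [derivative_sum, map_sum]
      refine Finset.sum_congr rfl fun i _ => ?_
      rw [derivative_C_mul_X_pow, map_mul, aeval_C, map_pow, aeval_X, map_mul, map_natCast, mul_assoc]
    rw [← hD, hder, map_sum, Finset.sum_mul, Finset.mul_sum, ← Finset.sum_add_distrib]
    refine Finset.sum_congr rfl fun i _ => ?_
    rw [Derivation.leibniz, Derivation.leibniz_pow, hχ]
    simp only [smul_eq_mul, nsmul_eq_mul, map_mul, map_natCast, map_pow, S]
    ring
  have hsum : Valued.v (∑ i ∈ Finset.range n, ψ (algebraMap K K' (r i)) * S ^ i) = 1 := by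
    rw [Finset.sum_range_succ']
    have h1 : Valued.v (ψ (algebraMap K K' (r 0)) * S ^ 0) = 1 := by
      rw [pow_zero, mul_one, hψ.1, he, hr0, one_pow]
    rw [Valuation.map_add_eq_of_lt_right _ ?_, h1]
    rw [h1]
    refine Valuation.map_sum_lt _ one_ne_zero fun i _ => ?_
    rw [map_mul, map_pow, hψ.1, hψ.1, he, hs]
    refine (mul_le_of_le_one_left' (pow_le_one₀ zero_le (hr1 _))).trans_lt ?_
    exact pow_lt_one₀ zero_le ((exp_lt_exp.2 (by norm_num)).trans_eq exp_zero) (Nat.succ_ne_zero i)
  have hS : Valued.v (LocRes.D F' S) = 1 := by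
    rw [Basic.vD_eq (m := 1) ((hψ.1 s).trans hs) (by simp)]
    simp
  have hfinal := congrArg Valued.v (eq_neg_of_add_eq_zero_left hd)
  rw [Valuation.map_neg, map_mul, map_mul, hS, hsum, mul_one, mul_one, hψ.1,
    Basic.diffExp_eq hK hsep he hφ hψ hx hx' ht] at hfinal
  exact (Place.ord_eq_of_val_eq_exp Q hfinal).trans (neg_neg _)

end Groth.Agent.H81.Diff.Minpoly
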