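import Groth.Agent.Lib.FunFld.Res.Global
import Groth.Agent.H81.Diff.Hilbert
/-!
# The trace of local residues

The semilocal trace formula over one place, at every geometric point of that place.
-/

set_option autoImplicit false

namespace Groth.Agent.H81.Diff.Trace

open WithZero Groth.Agent.Lib.FunFld Groth.Agent.Lib.FunFld.Res
open Groth.Agent.Lib.FunFld.Res.Global (chi Pt chi_apply)

universe u v w
section Dense

variable {k : Type u} {K : Type v} [Field k] [Field K] [Algebra k K]
variable {F : _root_.FunFld.Place k K → Type w} [∀ P, Field (F P)] [∀ P, Algebra k (F P)]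
  [∀ P, FiniteDimensional k (F P)]
variable (φ : ∀ P, K →ₐ[k] LaurentSeries (F P))

local notation "Lk" => AlgebraicClosure k

/-- The density of the global field in a finite product of local fields. -/
theorem W_eq_top {J : Type*} [Fintype J] (π : J → Pt F) (hπ : Function.Injective π)
    (hφ : ∀ j, LocRes.IsExpansionAt (π j).1.1 (φ (π j).1))
    (d : J → Local.Dat Lk) :
    TraceFormula.W d (fun j => chi φ (π j)) = ⊤ := by
  classical
  refine TraceFormula.W_eq_top fun j r N => ?_
  set W := TraceFormula.W d (fun j => chi φ (π j))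
  -- the coefficient vectors at the place
  set P := (π j).1
  obtain ⟨c, hc⟩ : ∃ c : F P →₀ Lk,
      ∀ ι : F P →ₐ[k] Lk, (c.sum fun a l => l * ι a) = if ι = (π j).2 then 1 else 0 := by
    let Φ : F P → ((F P →ₐ[k] Lk) → Lk) := fun a ι => ι a
    have htop : Submodule.span Lk (Set.range Φ) = ⊤ := by
      by_contra hne
      obtain ⟨f, hf0, hf⟩ := Submodule.exists_le_ker_of_lt_top _ (lt_top_iff_ne_top.mpr hne)
      have hfv : ∀ v : (F P →ₐ[k] Lk) → Lk, f v = ∑ ι, f (Pi.single ι 1) * v ι := fun v => by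
        conv_lhs => rw [pi_eq_sum_univ' v]
        simp [mul_comm, map_sum]
      have hli := linearIndependent_toLinearMap k (F P) Lk
      have h0 := Fintype.linearIndependent_iff.mp hli (fun ι => f (Pi.single ι 1))
        (LinearMap.ext fun a => by
          have h := hf (Submodule.subset_span ⟨a, rfl⟩)
          rw [LinearMap.mem_ker, hfv] at h
          simpa [Φ] using h)
      exact hf0 (LinearMap.ext fun v => by
        rw [hfv, LinearMap.zero_apply]
        exact Finset.sum_eq_zero fun ι _ => by rw [h0 ι, zero_mul])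
    obtain ⟨c, hc⟩ := (Finsupp.mem_span_range_iff_exists_finsupp).mp
      (htop.symm ▸ Submodule.mem_top : Pi.single (π j).2 (1 : Lk) ∈ Submodule.span Lk (Set.range Φ))
    refine ⟨c, fun ι => ?_⟩
    have := congrFun hc ι
    rw [Pi.single_apply] at this
    simpa [Finsupp.sum, Φ] using this
  -- approximations
  choose a ha using fun b : F P =>
    Coef.exists_approx (hφ j) (PowerSeries.C b * PowerSeries.X ^ (r : ℕ)) N
  have hz : ∀ b : F P, ∃ z : K, P.1 (z - a b) ≤ exp (-(N : ℤ)) ∧
      ∀ j', (π j').1 ≠ P → (π j').1.1 z ≤ exp (-(N : ℤ)) := fun b => by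
    obtain ⟨z, hz⟩ := Approx.approximation (Finset.univ.image fun j' => (π j').1)
      (fun Q => if Q = P then a b else 0) (fun _ => -(N : ℤ))
    refine ⟨z, ?_, fun j' hj' => ?_⟩
    · have := hz P (Finset.mem_image.mpr ⟨j, Finset.mem_univ j, rfl⟩)
      rwa [if_pos rfl] at this
    · have := hz (π j').1 (Finset.mem_image.mpr ⟨j', Finset.mem_univ j', rfl⟩)
      rwa [if_neg hj', sub_zero] at this
  choose z hz1 hz2 using hz
  refine ⟨∑ b ∈ c.support, (HahnSeries.C (c b) : LaurentSeries Lk) •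
    TraceFormula.theta d (fun j => chi φ (π j)) (z b),
    sum_mem fun b _ => Submodule.smul_mem _ _ (Submodule.subset_span ⟨_, rfl⟩), fun j' => ?_⟩
  simp only [Finset.sum_apply, Pi.smul_apply, TraceFormula.theta_apply, Local.smul_def,
    Local.σL_C, ← map_mul, ← map_sum, RingEquiv.symm_apply_apply, Pi.basis_apply]
  have hlow : ∀ b, Valued.v (chi φ (π j') (z b) - (if (π j').1 = P then
      Coef.mapL (π j').2.toRingHom (φ (π j').1 (z b)) else 0)) ≤ exp (-(N : ℤ)) := fun b => by
    split_ifs with h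
    · rw [chi_apply, sub_self, map_zero]; exact zero_le
    · rw [sub_zero, chi_apply, Coef.val_mapL, (hφ j').1]; exact hz2 b j' h
  by_cases hP : (π j').1 = P
  · have hpair : ∃ ι : F P →ₐ[k] Lk, π j' = ⟨P, ι⟩ := by
      rcases hπj : π j' with ⟨Q, ι'⟩
      rw [hπj] at hP
      subst hP
      exact ⟨ι', rfl⟩
    obtain ⟨ι, hι⟩ := hpair
    have hδ : (Local.mk (d j')).symm ((Pi.single j ((Local.basis (d j)) r) : ∀ i, Local.CovL (d i)) j') =
        HahnSeries.C (if ι = (π j).2 then 1 else 0) * HahnSeries.single ((r : ℕ) : ℤ) (1 : Lk) := by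
      by_cases hj : j' = j
      · subst hj
        rw [Pi.single_eq_same, Local.basis_apply, RingEquiv.symm_apply_apply,
          if_pos (eq_of_heq (Sigma.mk.inj_iff.mp
            (hι.symm : (⟨P, ι⟩ : Pt F) = ⟨(π j').1, (π j').2⟩)).2), RingHom.map_one, one_mul]
      · rw [Pi.single_eq_of_ne hj, map_zero, if_neg, RingHom.map_zero, zero_mul]
        intro h
        exact hj (hπ (by rw [hι, h]))
    rw [hδ, ← hc ι, Finsupp.sum, map_sum, Finset.sum_mul, ← Finset.sum_sub_distrib]
    refine Valuation.map_sum_le _ fun b _ => ?_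
    rw [map_mul, mul_assoc, ← mul_sub, map_mul]
    have hC : Valued.v (HahnSeries.C (c b) : LaurentSeries Lk) ≤ 1 := by
      rw [← HahnSeries.ofPowerSeries_C]
      exact (LaurentSeries.val_le_one_iff_eq_coe _ _).mpr ⟨_, rfl⟩
    refine (mul_le_of_le_one_left zero_le hC).trans ?_
    rw [hι, chi_apply, show HahnSeries.C (ι b) * HahnSeries.single ((r : ℕ) : ℤ) (1 : Lk) =
        Coef.mapL ι.toRingHom ((PowerSeries.C b * PowerSeries.X ^ (r : ℕ) : PowerSeries (F P)) :
          LaurentSeries (F P)) by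
      rw [PowerSeries.coe_mul, HahnSeries.ofPowerSeries_C, HahnSeries.ofPowerSeries_X_pow, map_mul,
        Coef.mapL_C, Coef.mapL_single]
      rfl, ← map_sub, Coef.val_mapL]
    have := (ha b)
    calc Valued.v (φ P (z b) - _) = Valued.v ((φ P (z b) - φ P (a b)) +
          (φ P (a b) - ((PowerSeries.C b * PowerSeries.X ^ (r : ℕ) : PowerSeries (F P)) :
            LaurentSeries (F P)))) := by rw [sub_add_sub_cancel]
      _ ≤ _ := by
        refine Valuation.map_add_le _ ?_ this
        rw [← map_sub, (hφ j).1]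
        exact hz1 b
  · have hj : j' ≠ j := fun h => hP (h ▸ rfl)
    rw [Pi.single_eq_of_ne hj, map_zero, sub_zero]
    refine Valuation.map_sum_le _ fun b _ => ?_
    have hC : Valued.v (HahnSeries.C (c b) : LaurentSeries Lk) ≤ 1 := by
      rw [← HahnSeries.ofPowerSeries_C]
      exact (LaurentSeries.val_le_one_iff_eq_coe _ _).mpr ⟨_, rfl⟩
    rw [map_mul]
    refine (mul_le_of_le_one_left zero_le hC).trans ?_
    rw [chi_apply, Coef.val_mapL, (hφ j').1]
    exact hz2 b j' hP

end Dense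

section Cover

variable {L : Type w} [Field L]

/-- An automorphism-free change of parameter: some cover carries a series of order one to any
series of positive order. -/
theorem exists_dat {A B : LaurentSeries L} {e : ℕ} (he : 0 < e) (hA : Valued.v A = exp (-1 : ℤ))
    (hB : Valued.v B = exp (-(e : ℤ))) : ∃ d : Local.Dat L, d.e = e ∧ Local.σL d A = B := by
  obtain ⟨a, rfl⟩ := (LaurentSeries.val_le_one_iff_eq_coe L A).1
    (hA.le.trans ((exp_le_exp.2 (by norm_num)).trans exp_zero.le))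
  obtain ⟨b, rfl⟩ := (LaurentSeries.val_le_one_iff_eq_coe L B).1
    (hB.le.trans ((exp_le_exp.2 (by omega)).trans exp_zero.le))
  have ha0 : PowerSeries.constantCoeff a = 0 := by
    have := (LaurentSeries.valuation_le_iff_coeff_lt_eq_zero L).1 hA.le 0 (by norm_num)
    rwa [PowerSeries.coeff_coe, if_neg (lt_irrefl _), Int.natAbs_zero,
      PowerSeries.coeff_zero_eq_constantCoeff_apply] at this
  have hb0 : PowerSeries.constantCoeff b = 0 := by
    have := (LaurentSeries.valuation_le_iff_coeff_lt_eq_zero L).1 hB.le 0 (by omega)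
    rwa [PowerSeries.coeff_coe, if_neg (lt_irrefl _), Int.natAbs_zero,
      PowerSeries.coeff_zero_eq_constantCoeff_apply] at this
  have ha1 : PowerSeries.coeff 1 a ≠ 0 := by
    have := Basic.coeff_ne_zero_of_val_eq (m := 1) hA
    rwa [PowerSeries.coeff_coe, if_neg (by norm_num)] at this
  let _ : Invertible (PowerSeries.coeff 1 a) := invertibleOfNonzero ha1
  let q := a.substInv
  let S : PowerSeries L := PowerSeries.subst b q
  have hbs : PowerSeries.HasSubst b := PowerSeries.HasSubst.of_constantCoeff_zero' hb0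
  have hqs : PowerSeries.HasSubst q := PowerSeries.HasSubst.substInv a
  have hS : PowerSeries.subst S a = b := by
    rw [← PowerSeries.subst_comp_subst_apply hqs hbs, PowerSeries.subst_substInv_right _ ha0,
      PowerSeries.subst_X hbs]
  obtain ⟨w, hw⟩ : ∃ w : (PowerSeries L)ˣ, q = PowerSeries.X * (w : PowerSeries L) := by
    obtain ⟨c, hc⟩ : PowerSeries.X ∣ q :=
      PowerSeries.X_dvd_iff.2 a.constantCoeff_substInv
    have h1 : PowerSeries.constantCoeff c ≠ 0 := by
      have h2 : PowerSeries.coeff 1 q = ⅟(PowerSeries.coeff 1 a) := a.coeff_one_substInv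
      rw [hc, PowerSeries.coeff_succ_X_mul 0, PowerSeries.coeff_zero_eq_constantCoeff_apply] at h2
      rw [h2]
      exact Invertible.ne_zero _
    exact ⟨(PowerSeries.isUnit_iff_constantCoeff.2 h1.isUnit).unit, hc⟩
  have hsplit : S = b * PowerSeries.subst b (w : PowerSeries L) := by
    show PowerSeries.subst b q = _
    rw [hw, PowerSeries.subst_mul hbs, PowerSeries.subst_X hbs]
  have hw1 : Valued.v ((PowerSeries.subst b (w : PowerSeries L) : PowerSeries L) : LaurentSeries L) = 1 := by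
    have hle : ∀ c : PowerSeries L, Valued.v (c : LaurentSeries L) ≤ 1 := fun c =>
      (LaurentSeries.val_le_one_iff_eq_coe L _).mpr ⟨c, rfl⟩
    refine le_antisymm (hle _) ?_
    have h := mul_le_mul_right (hle (PowerSeries.subst b ((↑w⁻¹ : PowerSeries L))))
      (Valued.v ((PowerSeries.subst b (w : PowerSeries L) : PowerSeries L) : LaurentSeries L))
    have h1 : PowerSeries.subst b (1 : PowerSeries L) = 1 := by
      rw [← PowerSeries.coe_substAlgHom hbs, map_one]
    rwa [← map_mul, ← PowerSeries.coe_mul, ← PowerSeries.subst_mul hbs, Units.mul_inv,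
      h1, PowerSeries.coe_one, map_one, mul_one] at h
  have hSv : Valued.v (S : LaurentSeries L) = exp (-(e : ℤ)) := by
    rw [hsplit, PowerSeries.coe_mul, map_mul, hB, hw1, mul_one]
  obtain ⟨n, u, hnu, hvn⟩ := Hasse.Residue.decompose (g := (S : LaurentSeries L)) fun h => by
    rw [h, map_zero] at hSv; exact exp_ne_zero hSv.symm
  rw [hSv, exp_inj, neg_inj] at hvn
  subst hvn
  refine ⟨⟨e, he, u⟩, rfl, ?_⟩
  have hSe : Cover.S e u = S := HahnSeries.ofPowerSeries_injective (by
    rw [hnu, Cover.S, PowerSeries.coe_mul, HahnSeries.ofPowerSeries_X_pow])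
  rw [Local.σL_coe]
  congr 1
  show Cover.σ e u he a = b
  rw [Cover.σ, PowerSeries.coe_substAlgHom, hSe, hS]

end Cover

section Rigid

open Polynomial

variable {k : Type u} {K : Type v} [Field k] [Field K] [Algebra k K] {L : Type w} [Field L] [Algebra k L]

/-- A series with a simple residual root is determined by it. -/
theorem sub_le {g : k[X]} {a b : LaurentSeries L} (ha : Valued.v a ≤ 1) (hb : Valued.v b ≤ 1)
    (hab : Valued.v (a - b) < 1)
    (hg : Valued.v ((derivative g).eval₂ ((HahnSeries.C (Γ := ℤ)).comp (algebraMap k L)) b) = 1) :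
    Valued.v (g.eval₂ ((HahnSeries.C (Γ := ℤ)).comp (algebraMap k L)) a -
      g.eval₂ ((HahnSeries.C (Γ := ℤ)).comp (algebraMap k L)) b) = Valued.v (a - b) := by
  obtain ⟨a', rfl⟩ := (LaurentSeries.val_le_one_iff_eq_coe L a).1 ha
  obtain ⟨b', rfl⟩ := (LaurentSeries.val_le_one_iff_eq_coe L b).1 hb
  let ι₁ : k →+* PowerSeries L := (PowerSeries.C).comp (algebraMap k L)
  have hι : (HahnSeries.ofPowerSeries ℤ L).comp ι₁ = (HahnSeries.C (Γ := ℤ)).comp (algebraMap k L) :=
    RingHom.ext fun c => HahnSeries.ofPowerSeries_C _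
  obtain ⟨c, hc⟩ := (g.map ι₁).binomExpansion b' (a' - b')
  rw [add_sub_cancel, derivative_map, eval_map, eval_map, eval_map] at hc
  have hc' := congrArg (HahnSeries.ofPowerSeries ℤ L) hc
  simp only [map_add, map_mul, map_pow, map_sub, hom_eval₂, hι] at hc'
  rw [hc', show ∀ p q r : LaurentSeries L, p + q + r - p = q + r from fun _ _ _ => by ring, sq, ← mul_assoc,
    ← add_mul, map_mul, Valuation.map_add_eq_of_lt_left, hg, one_mul]
  rw [hg, map_mul]
  refine (mul_le_mul' ((LaurentSeries.val_le_one_iff_eq_coe L _).mpr ⟨c, rfl⟩) le_rfl).trans_lt ?_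
  rw [one_mul]
  exact hab

/-- Two expansions that agree on residues and on a parameter are equal. -/
theorem rigid {P : _root_.FunFld.Place k K} {F₀ : Type*} [Field F₀] [Algebra k F₀] [Algebra.IsSeparable k F₀]
    {φ : K →ₐ[k] LaurentSeries F₀} (hφ : LocRes.IsExpansionAt P.1 φ) {A B : K →+* LaurentSeries L}
    (hAc : ∀ c, A (algebraMap k K c) = HahnSeries.C (algebraMap k L c))
    (hBc : ∀ c, B (algebraMap k K c) = HahnSeries.C (algebraMap k L c))
    {e : ℕ} (he : 0 < e) (hA : ∀ z, Valued.v (A z) = P.1 z ^ e) (hB : ∀ z, Valued.v (B z) = P.1 z ^ e)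
    (h0 : ∀ z, P.1 z ≤ 1 → Valued.v (A z - B z) < 1) {t : K} (ht : P.1 t = exp (-1)) (htAB : A t = B t) :
    A = B := by
  have ht0 : t ≠ 0 := fun h => exp_ne_zero (a := (-1 : ℤ)) (by rw [← ht, h, map_zero])
  have key : ∀ N : ℕ, ∀ z, P.1 z ≤ 1 → Valued.v (A z - B z) ≤ exp (-(N : ℤ)) := by
    intro N
    induction N with
    | zero =>
      intro z hz
      exact (h0 z hz).le.trans (by simp)
    | succ N ih =>
      intro z hz
      obtain ⟨g, -, hg0, hg1⟩ := Hilbert.exists_sep hφ ⟨z, hz⟩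
      obtain ⟨b, hb, hgb⟩ : ∃ b, P.1 b ≤ 1 ∧ aeval z g = t * b := by
        refine ⟨aeval z g / t, ?_, (mul_div_cancel₀ _ ht0).symm⟩
        rw [map_div₀, ht, div_le_one₀ exp_pos]
        exact Hilbert.le_exp_of_lt_one (k := k) (K' := K) hg0
      have hev : ∀ (C : K →+* LaurentSeries L), (∀ c, C (algebraMap k K c) = HahnSeries.C (algebraMap k L c)) →
          ∀ p : k[X], C (aeval z p) = p.eval₂ ((HahnSeries.C (Γ := ℤ)).comp (algebraMap k L)) (C z) := by
        intro C hC p
        rw [aeval_def, hom_eval₂]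
        congr 1
        exact RingHom.ext hC
      have hval : ∀ (C : K →+* LaurentSeries L), (∀ x, Valued.v (C x) = P.1 x ^ e) → Valued.v (C z) ≤ 1 :=
        fun C hC => (hC z).trans_le (pow_le_one₀ zero_le hz)
      have h1 := sub_le (g := g) (hval A hA) (hval B hB) (h0 z hz) (by rw [← hev B hBc, hB, hg1, one_pow])
      rw [← hev A hAc, ← hev B hBc, hgb, map_mul, map_mul, htAB, ← mul_sub, map_mul, hB, ht] at h1
      rw [← h1]
      refine (mul_le_mul' le_rfl (ih b hb)).trans ?_
      rw [← exp_nsmul, ← exp_add]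
      exact exp_le_exp.2 (by simp; omega)
  have hO : ∀ z, P.1 z ≤ 1 → A z = B z := fun z hz => by
    by_contra h
    have h1 := key ((log (Valued.v (A z - B z))).natAbs + 1) z hz
    have h2 : Valued.v (A z - B z) ≠ 0 := (Valuation.ne_zero_iff _).2 (sub_ne_zero.2 h)
    have h3 := exp_le_exp.1 ((exp_log h2).le.trans h1)
    rw [Nat.cast_add, Nat.cast_one] at h3
    omega
  refine RingHom.ext fun z => ?_
  rcases le_total (P.1 z) 1 with hz | hz
  · exact hO z hz
  · have h1 := hO z⁻¹ (by rw [map_inv₀]; exact inv_le_one_of_one_le₀ hz)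
    rw [map_inv₀, map_inv₀] at h1
    exact inv_injective h1

end Rigid

section Main

variable {k : Type u} {K K' : Type v} [Field k] [Field K] [Field K'] [Algebra k K] [Algebra K K']
  [Algebra k K'] [IsScalarTower k K K'] [FiniteDimensional K K']
  {F : Type w} [Field F] [Algebra k F] [FiniteDimensional k F] [Algebra.IsSeparable k F]
  {F' : _root_.FunFld.Place k K' → Type w} [∀ Q, Field (F' Q)] [∀ Q, Algebra k (F' Q)]
  [∀ Q, FiniteDimensional k (F' Q)]

local notation "Lk" => AlgebraicClosure k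

omit [FiniteDimensional K K'] [FiniteDimensional k F] [Algebra.IsSeparable k F] [∀ Q, FiniteDimensional k (F' Q)] in
/-- The map of residue fields below a place. -/
theorem exists_resMap {P : _root_.FunFld.Place k K} {φ : K →ₐ[k] LaurentSeries F}
    (hφ : LocRes.IsExpansionAt P.1 φ) {Q : _root_.FunFld.Place k K'} {e : ℕ}
    (he : _root_.FunFld.IsOverWith Q P e) (he0 : 0 < e) {ψ : K' →ₐ[k] LaurentSeries (F' Q)}
    (hψ : LocRes.IsExpansionAt Q.1 ψ) :
    ∃ m : F →ₐ[k] F' Q, ∀ z : K, P.1 z ≤ 1 → (ψ (algebraMap K K' z)).coeff 0 = m ((φ z).coeff 0) := by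
  have hO : ∀ a : P.O, algebraMap K K' (a : K) ∈ Q.O := fun a => by
    show Q.1 _ ≤ 1
    rw [he]; exact pow_le_one₀ zero_le a.2
  let incl : P.O →ₐ[k] Q.O :=
    { ((algebraMap K K').comp P.O.subtype).codRestrict Q.O.toSubring hO with
      commutes' := fun c => Subtype.ext (by
        show algebraMap K K' ((algebraMap k P.O c : P.O) : K) = _
        rw [Place.coe_algebraMap_O, Place.coe_algebraMap_O, ← IsScalarTower.algebraMap_apply]) }
  let g := (Coef.resHom hψ).comp incl
  have hker : ∀ a : P.O, a ∈ RingHom.ker (Coef.resHom hφ) → g a = 0 := fun a ha => by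
    rw [RingHom.mem_ker, Coef.resHom_eq_zero_iff] at ha
    refine (Coef.resHom_eq_zero_iff hψ (incl a)).2 ?_
    show Q.1 (algebraMap K K' (a : K)) < 1
    rw [he]
    exact pow_lt_one₀ zero_le ha he0.ne'
  let e' := Ideal.quotientKerAlgEquivOfSurjective (Coef.resHom_surjective hφ)
  refine ⟨(Ideal.Quotient.liftₐ _ g hker).comp e'.symm.toAlgHom, fun z hz => ?_⟩
  show g ⟨z, hz⟩ = Ideal.Quotient.liftₐ _ g hker (e'.symm (Coef.resHom hφ ⟨z, hz⟩))
  have h1 : e'.symm (Coef.resHom hφ ⟨z, hz⟩) = Ideal.Quotient.mk _ ⟨z, hz⟩ := by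
    rw [AlgEquiv.symm_apply_eq]
    rfl
  rw [h1]
  rfl

theorem trace_formula (hK : _root_.FunFld.IsFunctionField k K)
    {P : _root_.FunFld.Place k K} {φ : K →ₐ[k] LaurentSeries F} (hφ : LocRes.IsExpansionAt P.1 φ)
    (Qs : Finset (_root_.FunFld.Place k K')) (hQs : ∀ Q, Q ∈ Qs ↔ _root_.FunFld.IsOver Q P)
    (ψ : ∀ Q, K' →ₐ[k] LaurentSeries (F' Q)) (hψ : ∀ Q ∈ Qs, LocRes.IsExpansionAt Q.1 (ψ Q))
    (hsepQ : ∀ Q ∈ Qs, Algebra.IsSeparable k (F' Q)) (y : K') (x : K) :
    LocRes.locRes φ (Algebra.trace K K' y) x = ∑ Q ∈ Qs, LocRes.locRes (ψ Q) y (algebraMap K K' x) := by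
  classical
  have : ∀ Q : Qs, Algebra.IsSeparable k (F' Q.1) := fun Q => hsepQ Q.1 Q.2
  obtain ⟨t, ht⟩ := Place.exists_val_eq_exp P (-1)
  choose eQ heQ using fun Q : Qs => (hQs Q.1).1 Q.2
  have heQ0 : ∀ Q, 0 < eQ Q := fun Q => Ext.pos_of_isOverWith (heQ Q)
  choose m hm using fun Q : Qs => exists_resMap hφ (heQ Q) (heQ0 Q) (hψ Q.1 Q.2)
  apply (algebraMap k Lk).injective
  rw [map_sum, ← Finset.sum_coe_sort]
  simp only [LocRes.locRes, trace_eq_sum_embeddings Lk]
  -- group the points above by their restriction below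
  simp_rw [fun Q : Qs => (Finset.sum_fiberwise (Finset.univ : Finset (F' Q.1 →ₐ[k] Lk))
    (fun ι => ι.comp (m Q)) (fun ι => ι (LocRes.resExp (ψ Q.1) y (algebraMap K K' x)))).symm]
  rw [Finset.sum_comm]
  refine Finset.sum_congr rfl fun ι₀ _ => ?_
  let J := Σ Q : Qs, {ι : F' Q.1 →ₐ[k] Lk // ι.comp (m Q) = ι₀}
  let π : J → Pt F' := fun j => ⟨j.1.1, j.2.1⟩
  have hπ : Function.Injective π := by
    rintro ⟨⟨Q, hQ⟩, ⟨ι, hι⟩⟩ ⟨⟨Q', hQ'⟩, ⟨ι', hι'⟩⟩ h
    cases h
    rfl
  let φ₀ : K →+* LaurentSeries Lk := (Coef.mapL ι₀.toRingHom).comp φ.toRingHom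
  have hv₀ : ∀ z, Valued.v (φ₀ z) = P.1 z := fun z => (Coef.val_mapL _ _).trans (hφ.1 z)
  have hvj : ∀ (j : J) (z : K), Valued.v (chi ψ (π j) (algebraMap K K' z)) = P.1 z ^ eQ j.1 := fun j z =>
    ((Coef.val_mapL _ _).trans ((hψ _ j.1.2).1 _)).trans (heQ j.1 z)
  choose d hde hdt using fun j : J => exists_dat (A := φ₀ t) (B := chi ψ (π j) (algebraMap K K' t)) (heQ0 j.1)
    ((hv₀ t).trans ht) (by rw [hvj, ht, ← exp_nsmul]; simp)
  have hσv : ∀ (j : J) (g : LaurentSeries Lk), Valued.v (Local.σL (d j) g) = Valued.v g ^ (d j).e := by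
    intro j g
    rcases eq_or_ne g 0 with rfl | hg
    · simp [(d j).he.ne']
    obtain ⟨n, u, hnu, hvn⟩ := Hasse.Residue.decompose hg
    have hu1 : ∀ u : (PowerSeries Lk)ˣ, Valued.v ((u : PowerSeries Lk) : LaurentSeries Lk) = 1 := fun u => by
      have hle : ∀ c : PowerSeries Lk, Valued.v (c : LaurentSeries Lk) ≤ 1 := fun c =>
        (LaurentSeries.val_le_one_iff_eq_coe _ _).mpr ⟨c, rfl⟩
      refine le_antisymm (hle _) ?_
      have h := mul_le_mul_right (hle (↑u⁻¹)) (Valued.v ((u : PowerSeries Lk) : LaurentSeries Lk))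
      rwa [← map_mul, ← PowerSeries.coe_mul, Units.mul_inv, PowerSeries.coe_one, map_one, mul_one] at h
    have hs : HahnSeries.single n (1 : Lk) = HahnSeries.single ((1 : ℕ) : ℤ) 1 ^ n := by
      apply Eq.symm
      rcases n.eq_nat_or_neg with ⟨i, rfl | rfl⟩
      · rw [zpow_natCast, HahnSeries.single_pow, one_pow]; simp
      · rw [zpow_neg, zpow_natCast, HahnSeries.single_pow, one_pow, HahnSeries.inv_single, inv_one]; simp
    rw [hvn]
    conv_lhs => rw [hnu, hs, map_mul, map_zpow₀, Local.σL_single, pow_one, map_mul, map_zpow₀,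
      Local.σL_coe, show Cover.σ (d j).e (d j).u (d j).he (u : PowerSeries Lk) =
        ((Units.map (Cover.σ (d j).e (d j).u (d j).he).toRingHom.toMonoidHom u : (PowerSeries Lk)ˣ) : PowerSeries Lk) from rfl,
      hu1, mul_one, Local.param_eq, map_mul, hu1, mul_one, LaurentSeries.valuation_single_zpow]
    rw [← exp_zsmul, ← exp_nsmul]
    congr 1
    simp only [zsmul_eq_mul, nsmul_eq_mul, Int.cast_id]
    ring
  have hc : ∀ j a, chi ψ (π j) (algebraMap K K' a) = Local.σL (d j) (φ₀ a) := by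
    intro j
    have hC : ∀ c, φ₀ (algebraMap k K c) = HahnSeries.C (algebraMap k Lk c) := fun c => by
      show Coef.mapL ι₀.toRingHom (φ (algebraMap k K c)) = _
      rw [LocRes.map_algebraMap, Coef.mapL_C]
      exact congrArg _ (ι₀.commutes c)
    have h := rigid hφ (A := (chi ψ (π j)).comp (algebraMap K K')) (B := (Local.σL (d j)).comp φ₀)
      (fun c => by
        show chi ψ (π j) (algebraMap K K' (algebraMap k K c)) = _
        rw [← IsScalarTower.algebraMap_apply, Global.chi_algebraMap])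
      (fun c => by
        show Local.σL (d j) (φ₀ (algebraMap k K c)) = _
        rw [hC, Local.σL_C])
      (heQ0 j.1) (hvj j)
      (fun z => by
        show Valued.v (Local.σL (d j) (φ₀ z)) = _
        rw [hσv, hv₀, hde])
      ?_ ht (hdt j).symm
    · exact fun a => RingHom.congr_fun h a
    intro z hz
    show Valued.v (chi ψ (π j) (algebraMap K K' z) - Local.σL (d j) (φ₀ z)) < 1
    obtain ⟨p, hp⟩ := (LaurentSeries.val_le_one_iff_eq_coe _ (φ₀ z)).1 ((hv₀ z).trans_le hz)
    have hc0 : (φ₀ z).coeff 0 = ι₀ ((φ z).coeff 0) := Coef.coeff_mapL _ _ _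
    rw [← sub_add_sub_cancel _ (HahnSeries.C (ι₀ ((φ z).coeff 0))) _]
    have hlt : ∀ g : LaurentSeries Lk, Valued.v g ≤ 1 → g.coeff 0 = 0 → Valued.v g < 1 := fun g hg hg0 => by
      refine ((LaurentSeries.valuation_le_iff_coeff_lt_eq_zero Lk).2 fun n hn => ?_ :
        Valued.v g ≤ exp (-(1 : ℤ))).trans_lt ((exp_lt_exp.2 (by norm_num)).trans_eq exp_zero)
      rcases lt_or_eq_of_le (show n ≤ 0 by omega) with h | rfl
      · exact (LaurentSeries.valuation_le_iff_coeff_lt_eq_zero Lk).1 (hg.trans_eq (by simp : (1 : WithZero (Multiplicative ℤ)) = exp (-(0 : ℤ)))) n h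
      · exact hg0
    have hC1 : ∀ c : Lk, Valued.v (HahnSeries.C c : LaurentSeries Lk) ≤ 1 := fun c => by
      rw [← HahnSeries.ofPowerSeries_C]
      exact (LaurentSeries.val_le_one_iff_eq_coe _ _).mpr ⟨_, rfl⟩
    refine Valuation.map_add_lt _ (hlt _ ?_ ?_) ?_
    · exact Valuation.map_sub_le _ ((hvj j z).trans_le (pow_le_one₀ zero_le hz)) (hC1 _)
    · rw [HahnSeries.coeff_sub, HahnSeries.C_apply, HahnSeries.coeff_single_same, chi_apply, Coef.coeff_mapL,
        sub_eq_zero]
      show j.2.1 _ = _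
      rw [hm j.1 z hz]
      exact DFunLike.congr_fun j.2.2 _
    · rw [← Local.σL_C (d j), ← map_sub, hσv, pow_lt_one_iff_of_nonneg zero_le (d j).he.ne']
      refine hlt _ (Valuation.map_sub_le _ (hC1 _) ((hv₀ z).trans_le hz)) ?_
      rw [HahnSeries.coeff_sub, HahnSeries.C_apply, HahnSeries.coeff_single_same, hc0, sub_self]
  have hW := W_eq_top ψ π hπ (fun j => hψ _ j.1.2) d
  have hn : ∑ j, (d j).e = Module.finrank K K' := by
    simp only [hde]
    rw [Fintype.sum_sigma]
    simp only [Finset.sum_const, Finset.card_univ, smul_eq_mul]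
    have hcard : ∀ Q : Qs, Fintype.card {ι : F' Q.1 →ₐ[k] Lk // ι.comp (m Q) = ι₀} * P.deg = Q.1.deg := by
      intro Q
      let _ := (m Q).toRingHom.toAlgebra
      let _ := ι₀.toRingHom.toAlgebra
      have : IsScalarTower k F (F' Q.1) := IsScalarTower.of_algebraMap_eq fun c => ((m Q).commutes c).symm
      have : IsScalarTower k F Lk := IsScalarTower.of_algebraMap_eq fun c => (ι₀.commutes c).symm
      have : Module.Finite F (F' Q.1) := Module.Finite.right k F _
      have : Algebra.IsSeparable F (F' Q.1) := Algebra.isSeparable_tower_top_of_isSeparable k F _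
      let ee : {ι : F' Q.1 →ₐ[k] Lk // ι.comp (m Q) = ι₀} ≃ (F' Q.1 →ₐ[F] Lk) :=
        { toFun := fun ι => { ι.1 with commutes' := fun c => DFunLike.congr_fun ι.2 c }
          invFun := fun ι => ⟨ι.restrictScalars k, AlgHom.ext fun c => ι.commutes c⟩
          left_inv := fun _ => rfl
          right_inv := fun _ => rfl }
      rw [Fintype.card_congr ee, AlgHom.card, ← Coef.finrank_eq_deg hφ, ← Coef.finrank_eq_deg (hψ Q.1 Q.2),
        mul_comm]
      exact Module.finrank_mul_finrank k F (F' Q.1)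
    obtain ⟨hfin, hsum⟩ := Ext.sum_ramIdx_mul_deg (K' := K') hK P
    have hfs : hfin.toFinset = Qs := by ext Q; rw [hfin.mem_toFinset, hQs]; rfl
    rw [hfs, ← Finset.sum_coe_sort] at hsum
    refine Nat.eq_of_mul_eq_mul_right (Existence.deg_pos hK P) ?_
    rw [← hsum, Finset.sum_mul]
    refine Finset.sum_congr rfl fun Q _ => ?_
    rw [Ext.ramIdx_eq (heQ Q), ← hcard Q]
    ring
  have h := TraceFormula.res_eq hc hW hn y x
  have hres : ∀ j : Pt F', (chi ψ j y * LocRes.D Lk (chi ψ j (algebraMap K K' x))).coeff (-1) =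
      j.2 (LocRes.resExp (ψ j.1) y (algebraMap K K' x)) := fun j => by
    simp only [chi_apply, Coef.D_mapL, ← map_mul, Coef.coeff_mapL]
    rfl
  have hres₀ : (φ₀ (Algebra.trace K K' y) * LocRes.D Lk (φ₀ x)).coeff (-1) =
      ι₀ (LocRes.resExp φ (Algebra.trace K K' y) x) := by
    show (Coef.mapL ι₀.toRingHom _ * LocRes.D Lk (Coef.mapL ι₀.toRingHom _)).coeff (-1) = _
    rw [Coef.D_mapL, ← map_mul, Coef.coeff_mapL]
    rfl
  rw [hres₀, Finset.sum_congr rfl fun j _ => hres (π j), Fintype.sum_sigma] at h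
  rw [← h]
  refine Finset.sum_congr rfl fun Q _ => ?_
  exact (Finset.sum_subtype ((Finset.univ : Finset (F' Q.1 →ₐ[k] Lk)).filter fun ι => ι.comp (m Q) = ι₀)
    (fun ι => by simp) (fun ι => ι (LocRes.resExp (ψ Q.1) y (algebraMap K K' x)))).symm

end Main

end Groth.Agent.H81.Diff.Trace
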